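/-
Arithmetic for degrees in the principal block when `p` exactly divides the order (namespace `Cfsg.Agent.BrauerN`).

Main results: `hasForm_of_split`, `pos_degree`, `neg_degree`, `exc_pos_degree`, `exc_neg_degree`,
`hasForm_of_dvd` (what a divisor `f` of `e (1 + n p)` congruent to `± 1` or `± e` gives), `tensor_arith`.
-/
import Cfsg.Agent.EqLemmas
import Mathlib.Data.ZMod.Basic
import Mathlib.FieldTheory.Finite.Basic
import Mathlib.Tactic

set_option autoImplicit false

namespace Cfsg.Agent.BrauerN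

/-- `n = (h u p + u² + u + h) / (u + 1)` for positive `h` and `u`. -/
def HasForm (p n : ℕ) : Prop :=
  ∃ h u : ℕ, 0 < h ∧ 0 < u ∧ n * (u + 1) = h * u * p + u ^ 2 + u + h

variable {p n : ℕ}

theorem hasForm_of_split (hp : p.Prime) {D d s : ℕ} (hN : 1 + n * p = D * d) (hs : s ∣ p - 1)
    (hsD : ((s * D : ℕ) : ZMod p) = 1) (h1 : 1 < s * D) (hne : d ≠ s) : HasForm p n := by
  haveI := Fact.mk hp
  have hp2 := hp.two_le
  have hs0 : 0 < s := Nat.pos_of_ne_zero fun h => by rw [h, zero_mul] at h1; omega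
  have hsp : s < p := by
    have := Nat.le_of_dvd (by omega) hs
    omega
  have hds : (d : ZMod p) = (s : ZMod p) := by
    have h : ((D * d : ℕ) : ZMod p) = 1 := by rw [← hN]; simp
    push_cast at h hsD
    calc (d : ZMod p) = (s * D) * d := by rw [hsD, one_mul]
      _ = s * (D * d) := by ring
      _ = s := by rw [h, mul_one]
  obtain ⟨j, hj, hjd⟩ : ∃ j, 0 < j ∧ d = s + j * p := by
    rw [ZMod.natCast_eq_natCast_iff', Nat.mod_eq_of_lt hsp] at hds
    have h2 := Nat.div_add_mod d p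
    rw [hds] at h2
    refine ⟨d / p, Nat.pos_of_ne_zero fun h => hne ?_, ?_⟩
    · rw [h, Nat.mul_zero, Nat.zero_add] at h2; exact h2.symm
    · rw [mul_comm p] at h2; omega
  obtain ⟨u, hu, hsu⟩ : ∃ u, 0 < u ∧ s * D = u * p + 1 := by
    have h : s * D % p = 1 := by
      have := (ZMod.natCast_eq_natCast_iff' (s * D) 1 p).mp (by rw [hsD, Nat.cast_one])
      rwa [Nat.mod_eq_of_lt hp.one_lt] at this
    have h2 := Nat.div_add_mod (s * D) p
    rw [h] at h2
    refine ⟨s * D / p, Nat.pos_of_ne_zero fun h0 => ?_, ?_⟩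
    · rw [h0, Nat.mul_zero, Nat.zero_add] at h2; omega
    · rw [mul_comm p] at h2; omega
  obtain ⟨k, hk⟩ := hs
  have hsu1 : s ∣ u + 1 := by
    have h2 : s ∣ u * (s * k) + (u + 1) := by
      refine ⟨D, ?_⟩
      have hpk : p = s * k + 1 := by omega
      rw [hsu, hpk]; ring
    exact (Nat.dvd_add_right (Dvd.dvd.mul_left (dvd_mul_right s k) u)).mp h2
  obtain ⟨r, hr⟩ := hsu1
  have hr0 : 0 < r := Nat.pos_of_ne_zero fun h => by rw [h, Nat.mul_zero] at hr; omega
  refine ⟨j * r, u, Nat.mul_pos hj hr0, hu, Nat.eq_of_mul_eq_mul_right hp.pos ?_⟩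
  have hD : (1 + n * p) * (u + 1) = (u * p + 1) * (u + 1 + j * r * p) := by
    rw [hN, hr, ← hsu, hjd]; ring
  have h3 : (1 + n * p) * (u + 1) = (u + 1) + n * (u + 1) * p := by ring
  have h4 : (u * p + 1) * (u + 1 + j * r * p) = (u + 1) + (j * r * u * p + u ^ 2 + u + j * r) * p := by ring
  rw [h3, h4] at hD
  omega

/-- Splitting a divisor of `e N`. -/
theorem exists_split {e f N : ℕ} (he : 0 < e) (hf : f ∣ e * N) :
    ∃ g D e' d, 0 < g ∧ f = g * D ∧ e = g * e' ∧ N = D * d := by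
  have hg : 0 < Nat.gcd f e := Nat.gcd_pos_of_pos_right _ he
  obtain ⟨D, hD⟩ := Nat.gcd_dvd_left f e
  obtain ⟨e', he'⟩ := Nat.gcd_dvd_right f e
  have hco : Nat.Coprime D e' := by
    have := Nat.coprime_div_gcd_div_gcd hg
    rwa [Nat.div_eq_of_eq_mul_right hg hD, Nat.div_eq_of_eq_mul_right hg he'] at this
  obtain ⟨d, hd⟩ := hco.dvd_of_dvd_mul_left (show D ∣ e' * N from
    Nat.dvd_of_mul_dvd_mul_left hg (by rw [← hD, ← mul_assoc, ← he']; exact hf))
  exact ⟨_, D, e', d, hg, hD, he', hd⟩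

theorem cast_pred (hp : p.Prime) : ((p - 1 : ℕ) : ZMod p) = -1 := by
  rw [Nat.cast_sub hp.one_le, ZMod.natCast_self, Nat.cast_one, zero_sub]

theorem pos_degree (hp : p.Prime) {e f : ℕ} (he : e ∣ p - 1) (hf1 : 1 < f) (hfm : (f : ZMod p) = 1)
    (hf : f ∣ e * (1 + n * p)) : HasForm p n ∨ f = 1 + n * p := by
  have hp2 := hp.two_le
  obtain ⟨g, D, e', d, hg, hD, he', hd⟩ := exists_split (Nat.pos_of_dvd_of_pos he (by omega)) hf
  by_cases h : d = g
  · exact Or.inr (by rw [hD, hd, h, mul_comm])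
  · exact Or.inl (hasForm_of_split hp hd ((Dvd.intro e' he'.symm).trans he) (by rw [← hD, hfm]) (by rw [← hD]; exact hf1) h)

theorem neg_degree (hp : p.Prime) {e f : ℕ} (he : e ∣ p - 1) (hfm : (f : ZMod p) = -1)
    (hf : f ∣ e * (1 + n * p)) :
    HasForm p n ∨ f = p - 1 ∨ (e = p - 1 ∧ f = (p - 1) * (1 + n * p)) := by
  haveI := Fact.mk hp
  have hp2 := hp.two_le
  obtain ⟨g, D, e', d, hg, hD, he', hd⟩ := exists_split (Nat.pos_of_dvd_of_pos he (by omega)) hf
  obtain ⟨s, hs⟩ := (Dvd.intro e' he'.symm).trans he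
  have hd0 : 0 < d := Nat.pos_of_ne_zero fun h => by rw [h, Nat.mul_zero] at hd; omega
  by_cases hDs : D = s
  · exact Or.inr (Or.inl (by rw [hD, hDs, ← hs]))
  by_cases h1 : s * d = 1
  · obtain ⟨hs1, hd1⟩ := mul_eq_one.mp h1
    rw [hs1, mul_one] at hs
    rw [hd1, mul_one] at hd
    have := Nat.le_of_dvd (by omega) he
    have : g ≤ e := Nat.le_of_dvd (Nat.pos_of_dvd_of_pos he (by omega)) (Dvd.intro e' he'.symm)
    exact Or.inr (Or.inr ⟨by omega, by rw [hD, hs, hd]⟩)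
  refine Or.inl (hasForm_of_split hp (hd.trans (mul_comm _ _)) ⟨g, by rw [hs, mul_comm]⟩ ?_ ?_ hDs)
  · have hgs := congrArg (Nat.cast : ℕ → ZMod p) hs
    have hdD := congrArg (Nat.cast : ℕ → ZMod p) hd
    rw [hD] at hfm
    rw [cast_pred hp] at hgs
    push_cast at hgs hdD hfm ⊢
    rw [ZMod.natCast_self, mul_zero, add_zero] at hdD
    have hg0 : (g : ZMod p) ≠ 0 := fun h => by rw [h, zero_mul] at hgs; exact one_ne_zero (neg_eq_zero.mp hgs)
    apply mul_left_cancel₀ hg0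
    linear_combination (-(d : ZMod p)) * hgs + (-(g : ZMod p)) * hdD + (-(d : ZMod p)) * hfm
  · have : 0 < s := Nat.pos_of_ne_zero fun h => by rw [h, mul_zero] at hs; omega
    have := Nat.mul_pos this hd0
    omega

theorem exc_neg_degree (hp : p.Prime) {e t f : ℕ} (het : e * t = p - 1) (ht : 2 ≤ t)
    (hfm : (f : ZMod p) = -(e : ZMod p)) (hf : f ∣ e * (1 + n * p)) :
    HasForm p n ∨ t * f = 1 + n * p := by
  haveI := Fact.mk hp
  have hp2 := hp.two_le
  have he : 0 < e := Nat.pos_of_ne_zero fun h => by rw [h, zero_mul] at het; omega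
  obtain ⟨g, D, e', d, hg, hD, he', hd⟩ := exists_split he hf
  by_cases hds : d = g * t
  · exact Or.inr (by rw [hd, hD, hds]; ring)
  have hs : p - 1 = g * t * e' := by rw [← het, he']; ring
  have hg0 : (g : ZMod p) ≠ 0 := fun h => by
    have := congrArg (Nat.cast : ℕ → ZMod p) hs
    rw [cast_pred hp] at this
    push_cast at this
    rw [h, zero_mul, zero_mul] at this
    exact one_ne_zero (neg_eq_zero.mp this)
  refine Or.inl (hasForm_of_split hp hd ⟨e', hs⟩ ?_ ?_ hds)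
  · have h1 := congrArg (Nat.cast : ℕ → ZMod p) het
    rw [hD] at hfm
    rw [cast_pred hp] at h1
    push_cast at h1 hfm ⊢
    linear_combination (t : ZMod p) * hfm - h1
  · have hD0 : 0 < D := Nat.pos_of_ne_zero fun h => by rw [h, zero_mul] at hd; omega
    have h1 : 2 ≤ g * t := le_trans ht (Nat.le_mul_of_pos_left t hg)
    have := Nat.le_mul_of_pos_right (g * t) hD0
    omega

theorem exc_pos_degree (hp : p.Prime) {e f : ℕ} (he : e ∣ p - 1)
    (hfm : (f : ZMod p) = (e : ZMod p)) (hf : f ∣ e * (1 + n * p)) :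
    HasForm p n ∨ f = e ∨ f = e * (1 + n * p) := by
  haveI := Fact.mk hp
  have hp2 := hp.two_le
  have he0 : 0 < e := Nat.pos_of_dvd_of_pos he (by omega)
  obtain ⟨g, D, e', d, hg, hD, he', hd⟩ := exists_split he0 hf
  by_cases hDs : D = e'
  · exact Or.inr (Or.inl (by rw [hD, hDs, ← he']))
  by_cases h1 : e' * d = 1
  · obtain ⟨hs1, hd1⟩ := mul_eq_one.mp h1
    rw [hs1, mul_one] at he'
    rw [hd1, mul_one] at hd
    exact Or.inr (Or.inr (by rw [hD, he', hd]))
  have he'0 : 0 < e' := Nat.pos_of_ne_zero fun h => by rw [h, mul_zero] at he'; omega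
  have hd0 : 0 < d := Nat.pos_of_ne_zero fun h => by rw [h, Nat.mul_zero] at hd; omega
  refine Or.inl (hasForm_of_split hp (hd.trans (mul_comm _ _)) ((Dvd.intro_left g he'.symm).trans he) ?_ ?_ hDs)
  · have hdD := congrArg (Nat.cast : ℕ → ZMod p) hd
    rw [hD, he'] at hfm
    push_cast at hfm hdD ⊢
    rw [ZMod.natCast_self, mul_zero, add_zero] at hdD
    have hg0 : (g : ZMod p) ≠ 0 := fun h => by
      rw [ZMod.natCast_eq_zero_iff] at h
      have := Nat.le_of_dvd hg h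
      have := Nat.le_of_dvd (by omega) he
      have := Nat.le_of_dvd he0 (Dvd.intro e' he'.symm)
      omega
    rw [mul_right_inj' hg0] at hfm
    rw [← hfm, ← hdD]
  · have := Nat.mul_pos he'0 hd0
    omega

/-- If a proper divisor of `1 + n p` is `1` modulo `p`, `n` has the form. -/
theorem hasForm_of_dvd (hp : p.Prime) {n' M : ℕ} (hn' : 0 < n') (hM : 1 < M)
    (h : 1 + n * p = (1 + n' * p) * M) : HasForm p n := by
  refine hasForm_of_split hp h (one_dvd _) (by simp) ?_ (by omega)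
  have := Nat.mul_pos hn' hp.pos
  omega

/-- The constituents of `χ χ̄` for a character of degree `e`. -/
theorem tensor_arith {e t i j m : ℕ} (hp : p = e * t + 1) (he : 2 ≤ e) (ht : 2 ≤ t) (hn : 1 ≤ n)
    (h1 : (e : ℤ) ^ 2 - p * e + (p - 1) = -(i : ℤ) * (p - 1) + (j : ℤ) * (p - 1) + m * e)
    (h2 : i * (n + 1) + 1 ≤ e) : n = 1 ∧ t = 2 := by
  have h3 : (e : ℤ) - p + t = -(i : ℤ) * t + (j : ℤ) * t + m := by
    refine mul_left_cancel₀ (show (e : ℤ) ≠ 0 by omega) ?_
    subst hp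
    push_cast at h1 ⊢
    linear_combination h1
  have h4 : ((e : ℤ) - 1) * ((t : ℤ) - 1) ≤ (i : ℤ) * t := by
    have h0 : (0 : ℤ) ≤ (j : ℤ) * t + m := by positivity
    subst hp
    push_cast at h3
    linarith
  have h5 : (i : ℤ) * ((n : ℤ) + 1) + 1 ≤ (e : ℤ) := by exact_mod_cast h2
  have hi : (0 : ℤ) ≤ i := Int.natCast_nonneg i
  -- (n + 1) (t - 1) ≤ t
  have h6 : ((n : ℤ) + 1) * ((t : ℤ) - 1) ≤ t := by
    have e1 : (i : ℤ) * ((n : ℤ) + 1) * ((t : ℤ) - 1) ≤ (i : ℤ) * t := by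
      refine le_trans ?_ h4
      exact mul_le_mul_of_nonneg_right (by linarith) (by omega)
    have hipos : (0 : ℤ) < i := by
      by_contra h
      have : (i : ℤ) = 0 := by omega
      rw [this, zero_mul] at h4
      have : (0 : ℤ) < ((e : ℤ) - 1) * ((t : ℤ) - 1) := mul_pos (by omega) (by omega)
      omega
    rw [mul_assoc] at e1
    exact le_of_mul_le_mul_left e1 hipos
  have hn1 : (2 : ℤ) * ((t : ℤ) - 1) ≤ ((n : ℤ) + 1) * ((t : ℤ) - 1) :=
    mul_le_mul_of_nonneg_right (by omega) (by omega)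
  have ht2 : t = 2 := by omega
  subst ht2
  push_cast at h6
  exact ⟨by omega, rfl⟩

end Cfsg.Agent.BrauerN
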