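/-
Values and degrees in the principal block when `p` exactly divides the order (namespace `Cfsg.Agent.BrauerN`).

Main results: `rowSum`, `card_G`, `apply_pw`, `sum_pw_ne_zero`, `rowSum_one`, `degree_eq`, `dvd_of_sum`,
`apply_pw_const`, `sum_exc`, `two_le_index`, `one_le_of_perfect`, `linear_eq_one`, `K_bot`.
-/
import Cfsg.Agent.Lib.CyclicDefect.Count
import Cfsg.Agent.Lib.PrimeDegreeTwoP.Main
import Cfsg.Agent.Lib.Codegree.Basic
import Cfsg.Agent.Lib.CentralChar.Fixed
import Cfsg.Agent.Lib.BrauerN.Arith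

set_option autoImplicit false
set_option linter.unusedSectionVars false
set_option linter.style.haveILetI false

namespace Cfsg.Agent.BrauerN

open Cfsg Cfsg.Agent.Blocks Cfsg.Agent.CyclicDefect
open scoped commutatorElement

variable {G : Type*} [Group G] [Finite G] {p : ℕ} [Fact p.Prime] {x : G} {L : Subgroup G}
  {M : Ideal AlgInt} (hS : Setting p x L)

/-- The sum of a row of the principal block. -/
noncomputable def rowSum (χ : IrrCharacter G) : ℤ :=
  ∑ u : (ZMod p)ˣ, bInt hS χ (oneK x L) (u : ZMod p)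

include hS

theorem card_G {n : ℕ} (hn : Nat.card (Sylow p G) = 1 + n * p) :
    Nat.card G = p * Nat.card L * (1 + n * p) := by
  let P : Sylow p G := Sylow.ofCard (Subgroup.zpowers x) (by rw [hS.card_zpowers_eq, hS.factorization_card, pow_one])
  have hi : (Subgroup.normalizer (Subgroup.zpowers x : Set G)).index = 1 + n * p :=
    (Sylow.card_eq_index_normalizer P).symm.trans hn
  rw [← (Subgroup.normalizer (Subgroup.zpowers x : Set G)).card_mul_index, hi, hS.card_normalizer]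

theorem index_centralizer {n : ℕ} (hn : Nat.card (Sylow p G) = 1 + n * p) :
    (Subgroup.centralizer ({x} : Set G)).index = (K x L).index * (1 + n * p) := by
  have h := (Subgroup.centralizer ({x} : Set G)).card_mul_index
  rw [hS.card_centralizer, card_G hS hn, ← (K x L).card_mul_index] at h
  refine Nat.eq_of_mul_eq_mul_left (Nat.mul_pos hS.hp.pos (Nat.card_pos (α := K x L))) ?_
  rw [h]
  ring

theorem index_K_dvd : (K x L).index ∣ p - 1 := by
  rw [← card_U_one hS, ← card_units_eq hS (oneK x L : K x L → ℂ)]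
  exact dvd_mul_right _ _

theorem index_K_mul : (K x L).index * Nat.card ((ZMod p)ˣ ⧸ U hS (oneK x L : K x L → ℂ)) = p - 1 := by
  rw [← card_U_one hS, card_units_eq hS (oneK x L : K x L → ℂ)]

omit [Fact p.Prime] hS in
theorem sum_ζ_units [Fact p.Prime] {i : ZMod p} (hi : i ≠ 0) :
    ∑ j : (ZMod p)ˣ, ζ (i * (j : ZMod p)) = -1 := by
  have h := sum_ζ_mul (p := p) i
  rw [if_neg hi, ← Finset.add_sum_erase _ _ (Finset.mem_univ (0 : ZMod p))] at h
  have hs : ∑ j : (ZMod p)ˣ, ζ (i * (j : ZMod p)) = ∑ j ∈ Finset.univ.erase (0 : ZMod p), ζ (j * i) := by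
    refine Finset.sum_bij (fun u _ => (u : ZMod p)) (fun u _ => Finset.mem_erase.mpr ⟨u.ne_zero, Finset.mem_univ _⟩)
      (fun a _ b _ e => Units.ext e) (fun j hj => ⟨Units.mk0 j (Finset.ne_of_mem_erase hj), Finset.mem_univ _, rfl⟩)
      fun u _ => by rw [mul_comm]
  rw [zero_mul, ζ_zero] at h
  rw [hs]
  linear_combination h

variable (hM : IsPModular p M)
include hM

theorem lies_eq_one {φ : IrrCharacter (K x L)} (h : Lies M x L (principalBlock M G) φ) : φ = oneK x L := by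
  classical
  have := Fintype.ofFinite (IrrCharacter (K x L))
  have h1 := card_lies_one hS hM
  exact Finset.card_le_one.mp h1.le _ (Finset.mem_filter.mpr ⟨Finset.mem_univ _, h⟩) _
    (Finset.mem_filter.mpr ⟨Finset.mem_univ _, lies_principal hS hM⟩)

theorem bInt_eq_zero {χ : IrrCharacter G} (hχ : χ ∈ principalBlock M G) {φ : IrrCharacter (K x L)}
    (hφ : φ ≠ oneK x L) (j : ZMod p) : bInt hS χ φ j = 0 := by
  by_contra h
  obtain ⟨B, hB, hl, -⟩ := exists_lies hS hM φ
  have hP := (principal_isPBlock (G := G) hM).1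
  refine hφ (lies_eq_one hS hM ?_)
  have hmem : χ ∈ B := mem_of_bInt_ne_zero hS hM hB hl h
  rwa [isPBlock_eq_of_mem hM hP hB hχ hmem]

/-- The values on the nontrivial powers of `x`. -/
theorem apply_pw {χ : IrrCharacter G} (hχ : χ ∈ principalBlock M G) {i : ZMod p} (hi : i ≠ 0) :
    (χ : G → ℂ) (pw x i) = ∑ u : (ZMod p)ˣ, (bInt hS χ (oneK x L) (u : ZMod p) : ℂ) * ζ (i * (u : ZMod p)) := by
  classical
  have := Fintype.ofFinite (IrrCharacter (K x L))
  have := Fintype.ofFinite (K x L)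
  have h := apply_pw_mul hS hM χ hi 1
  rw [OneMemClass.coe_one, OneMemClass.coe_one, mul_one,
    ← isPBlock_eq_blockOf hM (principal_isPBlock (G := G) hM).1 hχ,
    Finset.sum_eq_single (oneK x L) (fun φ hφ hne => absurd (lies_eq_one hS hM (Finset.mem_filter.mp hφ).2) hne)
      (fun h' => absurd (Finset.mem_filter.mpr ⟨Finset.mem_univ _, lies_principal hS hM⟩) h'),
    show ((oneK x L : IrrCharacter (K x L)) : K x L → ℂ) 1 = 1 from rfl, mul_one, dec_eq_sum_bInt hS χ _ hi] at h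
  rw [h, ← sum_units (fun j => (bInt hS χ (oneK x L) j : ℂ) * ζ (i * j)) (by rw [bInt_zero]; simp)]

theorem sum_pw_ne_zero {χ : IrrCharacter G} (hχ : χ ∈ principalBlock M G) :
    ∑ i : (ZMod p)ˣ, (χ : G → ℂ) (pw x (i : ZMod p)) = -(rowSum hS χ : ℂ) := by
  rw [Finset.sum_congr rfl fun (i : (ZMod p)ˣ) _ => apply_pw hS hM hχ i.ne_zero, Finset.sum_comm, rowSum,
    Int.cast_sum, ← Finset.sum_neg_distrib]
  refine Finset.sum_congr rfl fun u _ => ?_
  rw [← Finset.mul_sum, Finset.sum_congr rfl fun (i : (ZMod p)ˣ) _ => by rw [mul_comm (i : ZMod p)],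
    sum_ζ_units u.ne_zero, mul_neg_one]

/-- A constant row. -/
theorem apply_pw_const {χ : IrrCharacter G} (hχ : χ ∈ principalBlock M G) {δ : ℤ}
    (h : ∀ u : (ZMod p)ˣ, bInt hS χ (oneK x L) (u : ZMod p) = δ) {i : ZMod p} (hi : i ≠ 0) :
    (χ : G → ℂ) (pw x i) = -(δ : ℂ) := by
  rw [apply_pw hS hM hχ hi, Finset.sum_congr rfl fun u _ => by rw [h u], ← Finset.mul_sum, sum_ζ_units hi,
    mul_neg_one]

open scoped Classical in
/-- A family with disjoint rows. -/
theorem sum_exc {ι : Type*} [Fintype ι] {χ : ι → IrrCharacter G} (hχ : ∀ c, χ c ∈ principalBlock M G)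
    {f : (ZMod p)ˣ → ι} {ε : ℤ}
    (h : ∀ c (u : (ZMod p)ˣ), bInt hS (χ c) (oneK x L) (u : ZMod p) = if f u = c then ε else 0)
    {i : ZMod p} (hi : i ≠ 0) : ∑ c, (χ c : G → ℂ) (pw x i) = -(ε : ℂ) := by
  rw [Finset.sum_congr rfl fun c _ => apply_pw hS hM (hχ c) hi, Finset.sum_comm,
    Finset.sum_congr rfl (g := fun u : (ZMod p)ˣ => (ε : ℂ) * ζ (i * (u : ZMod p))) fun u _ => ?_,
    ← Finset.mul_sum, sum_ζ_units hi, mul_neg_one]
  rw [Finset.sum_eq_single (f u) (fun c _ hc => by rw [h, if_neg (Ne.symm hc)]; simp)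
    (fun h' => absurd (Finset.mem_univ _) h'), h, if_pos rfl]

theorem rowSum_one : rowSum hS ⟨1, Char.isIrrCharacter_one⟩ = -((p - 1 : ℕ) : ℤ) := by
  have h := sum_pw_ne_zero hS hM (principal_isPBlock (G := G) hM).2
  simp only [Pi.one_apply, Finset.sum_const, Finset.card_univ, ZMod.card_units, nsmul_eq_mul, mul_one] at h
  have h2 : (((p - 1 : ℕ) : ℤ) : ℂ) = ((-rowSum hS ⟨1, Char.isIrrCharacter_one⟩ : ℤ) : ℂ) := by
    rw [Int.cast_natCast, Int.cast_neg]; exact h
  have := Int.cast_injective h2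
  omega

/-- The degree through the row; when nothing else remains `K` is in the kernel. -/
theorem degree_eq {χ : IrrCharacter G} (hχ : χ ∈ principalBlock M G) :
    ∃ m : ℕ, (charDegree (χ : G → ℂ) : ℤ) = rowSum hS χ + p * m ∧
      (m = 0 → ∀ k : K x L, ((k : L) : G) ∈ Codegree.kerSub χ) := by
  classical
  have := Fintype.ofFinite (IrrCharacter (K x L))
  have := Fintype.ofFinite (K x L)
  refine ⟨∑ φ : IrrCharacter (K x L), charDegree (φ : K x L → ℂ) * multN hS χ φ 0, ?_, fun hm k => ?_⟩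
  · have hsum : ∀ φ : IrrCharacter (K x L), ((∑ j : ZMod p, multN hS χ φ j : ℕ) : ℤ) =
        (if φ = oneK x L then rowSum hS χ else 0) + p * multN hS χ φ 0 := by
      intro φ
      have h := sum_bInt_eq hS χ φ
      by_cases hφ : φ = oneK x L
      · subst hφ; rw [if_pos rfl, rowSum]; omega
      · rw [if_neg hφ]; rw [Finset.sum_eq_zero fun u _ => bInt_eq_zero hS hM hχ hφ _] at h; omega
    have hterm : ∀ φ : IrrCharacter (K x L), ((charDegree (φ : K x L → ℂ) * ∑ j : ZMod p, multN hS χ φ j : ℕ) : ℤ) =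
        (if φ = oneK x L then rowSum hS χ else 0) + p * ((charDegree (φ : K x L → ℂ) * multN hS χ φ 0 : ℕ) : ℤ) := by
      intro φ
      rw [Nat.cast_mul, hsum, Nat.cast_mul]
      split_ifs with hφ
      · subst hφ
        rw [show charDegree ((oneK x L : IrrCharacter (K x L)) : K x L → ℂ) = 1 from
          Nat.cast_injective (R := ℂ) (by rw [charDegree_cast, Nat.cast_one]; rfl)]
        push_cast; ring
      · ring
    rw [charDegree_eq_sum hS χ, Nat.cast_sum, Nat.cast_sum, Finset.mul_sum,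
      Finset.sum_congr rfl fun φ _ => hterm φ,
      Finset.sum_add_distrib, Finset.sum_ite_eq', if_pos (Finset.mem_univ _)]
  · have h0 : ∀ φ : IrrCharacter (K x L), φ ≠ oneK x L → ∑ j : ZMod p, multN hS χ φ j = 0 := by
      intro φ hφ
      have h1 := Finset.sum_eq_zero_iff.mp hm φ (Finset.mem_univ _)
      have h2 : multN hS χ φ 0 = 0 := (Nat.mul_eq_zero.mp h1).resolve_left fun h => irr_one_ne_zero φ (by
        rw [← charDegree_cast, h, Nat.cast_zero])
      refine Finset.sum_eq_zero fun j _ => ?_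
      have h3 := bInt_eq_zero hS hM hχ hφ j
      rw [bInt_eq_sub, h2] at h3
      omega
    have hval : ∀ k : K x L, (χ : G → ℂ) ((k : L) : G) = dec (x := x) (χ : G → ℂ) (oneK x L : K x L → ℂ) (0 : ZMod p) := by
      intro k
      have h := apply_eq_sum hS (irr_class χ) (0 : ZMod p) k
      rw [hS.pw_zero, one_mul] at h
      rw [h, Finset.sum_eq_single (oneK x L) (fun φ _ hne => by rw [dec_zero_eq hS, h0 φ hne, Nat.cast_zero, zero_mul])
        (fun h' => absurd (Finset.mem_univ _) h')]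
      exact mul_one _
    rw [Codegree.mem_kerSub, hval, ← hval 1, OneMemClass.coe_one, OneMemClass.coe_one]

/-- A degree divides `e (1 + n p)` when the values at `x` sum to a unit. -/
theorem dvd_of_sum {n : ℕ} (hn : Nat.card (Sylow p G) = 1 + n * p) {ι : Type*} [Fintype ι]
    (χ : ι → IrrCharacter G) {f : ℕ} (hf : ∀ c, charDegree (χ c : G → ℂ) = f) (hf0 : 0 < f) {ε : ℤ}
    (hε : ε = 1 ∨ ε = -1) (hsum : ∑ c, (χ c : G → ℂ) x = (ε : ℂ)) : f ∣ (K x L).index * (1 + n * p) := by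
  have hint : IsIntegral ℤ (∑ c, ((Subgroup.centralizer ({x} : Set G)).index : ℂ) * (χ c : G → ℂ) x / (χ c : G → ℂ) 1) :=
    IsIntegral.sum _ fun c _ => Char.IsIrrCharacter.isIntegral_classSize_mul_div (χ c).2 x
  have heq : ∑ c, ((Subgroup.centralizer ({x} : Set G)).index : ℂ) * (χ c : G → ℂ) x / (χ c : G → ℂ) 1 =
      ((Subgroup.centralizer ({x} : Set G)).index : ℂ) * (ε : ℂ) / (f : ℂ) := by
    rw [Finset.sum_congr rfl fun c _ => by rw [← charDegree_cast (χ c), hf], ← Finset.sum_div, ← Finset.mul_sum, hsum]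
  rw [heq, index_centralizer hS hn] at hint
  refine Char.nat_dvd_of_isIntegral_div hf0.ne' ?_
  rcases hε with rfl | rfl
  · simpa using hint
  · simpa [neg_div] using hint.neg

omit [Finite G] [Fact p.Prime] hS hM in
/-- The linear characters of a perfect group. -/
theorem linear_eq_one [Finite G] (hperf : commutator G = ⊤) {χ : IrrCharacter G}
    (h : charDegree (χ : G → ℂ) = 1) : χ = ⟨1, Char.isIrrCharacter_one⟩ := by
  obtain ⟨l, hl⟩ := Char.exists_hom_of_degree_one (Char.IsIrrCharacter.isCharacter χ.2)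
    (by rw [← charDegree_cast, h, Nat.cast_one])
  refine Subtype.ext (funext fun g => ?_)
  have hle : commutator G ≤ l.toHomUnits.ker := Abelianization.commutator_subset_ker _
  have hg : l.toHomUnits g = 1 := hle (hperf ▸ Subgroup.mem_top g)
  have := congrArg (fun u : ℂˣ => (u : ℂ)) hg
  rw [MonoidHom.coe_toHomUnits, Units.val_one] at this
  exact (congrFun hl g).symm.trans this

omit hM in
/-- In a perfect group the normalizer of `⟨x⟩` is bigger than the centralizer. -/
theorem two_le_index (hperf : commutator G = ⊤) : 2 ≤ (K x L).index := by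
  by_contra hlt
  have hi : (K x L).index = 1 := by
    have := Subgroup.index_ne_zero_of_finite (H := K x L)
    omega
  have htop : K x L = ⊤ := Subgroup.index_eq_one.mp hi
  let P : Sylow p G := Sylow.ofCard (Subgroup.zpowers x) (by rw [hS.card_zpowers_eq, hS.factorization_card, pow_one])
  haveI : IsMulCommutative (P : Subgroup G) := ⟨⟨fun a b => Subtype.ext (by
    obtain ⟨i, hi⟩ := hS.exists_pw (show (a : G) ∈ Subgroup.zpowers x from a.2)
    obtain ⟨j, hj⟩ := hS.exists_pw (show (b : G) ∈ Subgroup.zpowers x from b.2)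
    show (a : G) * b = b * a
    rw [hi, hj, ← hS.pw_add, ← hS.pw_add, add_comm])⟩⟩
  have hc : Subgroup.normalizer ((P : Subgroup G) : Set G) ≤ Subgroup.centralizer ((P : Subgroup G) : Set G) := by
    intro g hg
    obtain ⟨u, hu, l, hl, rfl⟩ := hS.hgen g hg
    have hl' : Commute x (((⟨l, hl⟩ : L)) : G) := mem_K.mp (htop ▸ Subgroup.mem_top _)
    obtain ⟨i, rfl⟩ := hS.exists_pw hu
    rw [Subgroup.mem_centralizer_iff]
    intro z hz
    obtain ⟨j, rfl⟩ := hS.exists_pw (show z ∈ Subgroup.zpowers x from hz)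
    exact (((hS.commute_pw i (Commute.refl x)).symm.mul_right hl').pow_left j.val).eq
  have hcompl := MonoidHom.ker_transferSylow_isComplement' P hc
  set f := MonoidHom.transferSylow P hc
  have hker : f.ker = ⊤ := by
    rw [eq_top_iff, ← hperf, commutator_eq_closure, Subgroup.closure_le]
    rintro _ ⟨a, b, rfl⟩
    rw [SetLike.mem_coe, MonoidHom.mem_ker, map_commutatorElement, commutatorElement_eq_one_iff_mul_comm]
    exact mul_comm' (f a) (f b)
  rw [hker, Subgroup.isComplement'_top_left] at hcompl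
  have : Nat.card (Subgroup.zpowers x) = 1 := Subgroup.card_eq_one.mpr (show (P : Subgroup G) = ⊥ from hcompl)
  rw [hS.card_zpowers_eq] at this
  exact hS.hp.ne_one this

omit hM in
theorem one_le_of_perfect (hperf : commutator G = ⊤) {n : ℕ} (hn : Nat.card (Sylow p G) = 1 + n * p) : 1 ≤ n := by
  by_contra h0
  have hn0 : n = 0 := by omega
  have hN : Subgroup.normalizer (Subgroup.zpowers x : Set G) = ⊤ := by
    refine Subgroup.eq_top_of_card_eq _ ?_
    rw [hS.card_normalizer, card_G hS hn, hn0]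
    ring
  have hconj : ∀ g : G, ∃ a : ZMod p, g * x * g⁻¹ = pw x a := fun g =>
    hS.exists_pw ((Subgroup.mem_normalizer_iff.mp (hN ▸ Subgroup.mem_top g) x).mp (Subgroup.mem_zpowers x))
  have hle : commutator G ≤ Subgroup.centralizer ({x} : Set G) := by
    rw [commutator_eq_closure, Subgroup.closure_le]
    rintro _ ⟨g, h, rfl⟩
    rw [SetLike.mem_coe, Subgroup.mem_centralizer_singleton_iff]
    obtain ⟨a, ha⟩ := hconj g⁻¹
    obtain ⟨b, hb⟩ := hconj h⁻¹
    have h1 : g⁻¹ * (h⁻¹ * x * h⁻¹⁻¹) * g⁻¹⁻¹ = pw x (a * b) := by rw [hb, hS.conj_pw ha b, mul_comm]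
    have h2 : h⁻¹ * (g⁻¹ * x * g⁻¹⁻¹) * h⁻¹⁻¹ = pw x (a * b) := by rw [ha, hS.conj_pw hb a, mul_comm]
    have h3 : (g⁻¹ * h⁻¹) * x * (g⁻¹ * h⁻¹)⁻¹ = (h⁻¹ * g⁻¹) * x * (h⁻¹ * g⁻¹)⁻¹ := by
      calc (g⁻¹ * h⁻¹) * x * (g⁻¹ * h⁻¹)⁻¹ = g⁻¹ * (h⁻¹ * x * h⁻¹⁻¹) * g⁻¹⁻¹ := by group
        _ = h⁻¹ * (g⁻¹ * x * g⁻¹⁻¹) * h⁻¹⁻¹ := h1.trans h2.symm
        _ = _ := by group
    have h4 := congrArg (fun z => (h⁻¹ * g⁻¹)⁻¹ * z * (g⁻¹ * h⁻¹)) h3
    simp only [commutatorElement_def]
    calc g * h * g⁻¹ * h⁻¹ * x = (h⁻¹ * g⁻¹)⁻¹ * ((g⁻¹ * h⁻¹) * x * (g⁻¹ * h⁻¹)⁻¹) * (g⁻¹ * h⁻¹) := by group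
      _ = (h⁻¹ * g⁻¹)⁻¹ * ((h⁻¹ * g⁻¹) * x * (h⁻¹ * g⁻¹)⁻¹) * (g⁻¹ * h⁻¹) := h4
      _ = x * (g * h * g⁻¹ * h⁻¹) := by group
  have htop : K x L = ⊤ := eq_top_iff.mpr fun l _ => mem_K.mpr
    (Subgroup.mem_centralizer_singleton_iff.mp (hle (hperf ▸ Subgroup.mem_top (l : G)))).symm
  have := two_le_index hS hperf
  rw [htop, Subgroup.index_top] at this
  omega

theorem K_bot (hcore : pPrimeCore p G = ⊥) {χ : IrrCharacter G} (hχ : χ ∈ principalBlock M G)
    (hd : (charDegree (χ : G → ℂ) : ℤ) = rowSum hS χ) : K x L = ⊥ := by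
  classical
  obtain ⟨m, hm, hk⟩ := degree_eq hS hM hχ
  have hm0 : m = 0 := by
    rw [hd] at hm
    have : (p : ℤ) * m = 0 := by linarith
    rcases mul_eq_zero.mp this with h | h
    · exact absurd (by exact_mod_cast h) hS.hp.ne_zero
    · exact_mod_cast h
  have hx : x ∉ Codegree.kerSub χ := by
    intro hxk
    have h := sum_pw_ne_zero hS hM hχ
    rw [Finset.sum_congr rfl fun i _ => Codegree.mem_kerSub.mp
      (show pw x ((i : (ZMod p)ˣ) : ZMod p) ∈ Codegree.kerSub χ from Subgroup.pow_mem _ hxk _),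
      Finset.sum_const, Finset.card_univ, ZMod.card_units, nsmul_eq_mul, ← charDegree_cast] at h
    have h2 : (((p - 1) * charDegree (χ : G → ℂ) : ℕ) : ℤ) = -(charDegree (χ : G → ℂ) : ℤ) := by
      rw [hd]
      exact Int.cast_injective (α := ℂ) (by push_cast; rw [← hd]; push_cast; rw [h, ← hd]; push_cast; rfl)
    have := charDegree_pos χ
    omega
  have hcop : (Nat.card (Codegree.kerSub χ)).Coprime p := by
    refine (hS.hp.coprime_iff_not_dvd.mpr fun hdvd => hx ?_).symm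
    obtain ⟨y, hy⟩ := exists_prime_orderOf_dvd_card' (G := Codegree.kerSub χ) p hdvd
    let P : Sylow p G := Sylow.ofCard (Subgroup.zpowers x) (by rw [hS.card_zpowers_eq, hS.factorization_card, pow_one])
    obtain ⟨Q, hQ⟩ := (IsPGroup.of_card (n := 1) (show Nat.card (Subgroup.zpowers (y : G)) = p ^ 1 by
      rw [Nat.card_zpowers, pow_one, Subgroup.orderOf_coe]; exact hy)).exists_le_sylow
    obtain ⟨c, hc⟩ := MulAction.exists_smul_eq G P Q
    have hyQ : (y : G) ∈ (Q : Subgroup G) := hQ (Subgroup.mem_zpowers _)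
    rw [← hc, Sylow.coe_subgroup_smul] at hyQ
    obtain ⟨z, hz, hzy⟩ := hyQ
    obtain ⟨i, rfl⟩ := hS.exists_pw hz
    have hi : i ≠ 0 := fun h => hS.hp.ne_one (by
      rw [← hy, ← Subgroup.orderOf_coe, ← hzy, h, hS.pw_zero]; simp)
    have hmem : pw x i ∈ Codegree.kerSub χ := by
      have h2 := (Codegree.kerSub_normal χ).conj_mem' _ y.2 c
      have h3 : (y : G) = c * pw x i * c⁻¹ := hzy.symm
      rwa [h3, show c⁻¹ * (c * pw x i * c⁻¹) * c = pw x i by group] at h2
    have := Subgroup.pow_mem _ hmem (i⁻¹).val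
    rwa [hS.pw_pow, ZMod.natCast_rightInverse, inv_mul_cancel₀ hi, hS.pw_one] at this
  have hle : Codegree.kerSub χ ≤ pPrimeCore p G := le_sSup ⟨inferInstance, hcop⟩
  refine (Subgroup.eq_bot_iff_forall _).mpr fun l hl => ?_
  have : ((l : L) : G) ∈ (⊥ : Subgroup G) := hcore ▸ hle (hk hm0 ⟨l, hl⟩)
  exact Subtype.ext (Subgroup.mem_bot.mp this)

end Cfsg.Agent.BrauerN
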