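/-
The shape of the principal block when `n` has not the form (namespace `Cfsg.Agent.BrauerN`).

Main results: `Shape`, `const_degree`, `principal_shape`.
-/
import Cfsg.Agent.Lib.BrauerN.Section

set_option autoImplicit false
set_option linter.unusedSectionVars false
set_option linter.style.haveILetI false

namespace Cfsg.Agent.BrauerN

open Cfsg Cfsg.Agent.Blocks Cfsg.Agent.CyclicDefect

variable {G : Type*} [Group G] [Finite G] {p : ℕ} [Fact p.Prime] {x : G} {L : Subgroup G}
  {M : Ideal AlgInt} (hS : Setting p x L)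

/-- The principal character. -/
noncomputable def oneG (G : Type*) [Group G] : IrrCharacter G := ⟨1, Char.isIrrCharacter_one⟩

omit [Finite G] in
theorem oneG_apply (g : G) : (oneG G : G → ℂ) g = 1 := rfl

omit [Finite G] in
theorem charDegree_oneG [Finite G] : charDegree (oneG G : G → ℂ) = 1 :=
  Nat.cast_injective (R := ℂ) (by rw [charDegree_cast, Nat.cast_one]; rfl)

/-- The principal block consists of `1`, the families `A` (degree `1 + n p`), `B` (degree `p - 1`) and `X`. -/
structure Shape (M : Ideal AlgInt) (n f₀ : ℕ) (σ : ℤ) (A B X : Finset (IrrCharacter G)) : Prop where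
  sgn : σ = 1 ∨ σ = -1
  memA : ∀ χ ∈ A, χ ∈ principalBlock M G ∧ charDegree (χ : G → ℂ) = 1 + n * p ∧
    rowSum hS χ = -((p - 1 : ℕ) : ℤ) ∧ χ ≠ oneG G
  memB : ∀ χ ∈ B, χ ∈ principalBlock M G ∧ charDegree (χ : G → ℂ) = p - 1 ∧
    rowSum hS χ = ((p - 1 : ℕ) : ℤ) ∧ χ ≠ oneG G
  memX : ∀ χ ∈ X, χ ∈ principalBlock M G ∧ charDegree (χ : G → ℂ) = f₀ ∧
    rowSum hS χ = σ * ((K x L).index : ℤ) ∧ χ ≠ oneG G
  disjAB : Disjoint A B
  disjAX : Disjoint A X
  disjBX : Disjoint B X
  cover : ∀ χ ∈ principalBlock M G, χ = oneG G ∨ χ ∈ A ∨ χ ∈ B ∨ χ ∈ X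
  cardAB : A.card + B.card + 1 = (K x L).index
  cardX : (K x L).index * X.card = p - 1
  rel : ∀ g : G, ¬ p ∣ orderOf g → ∀ χ ∈ X, -1 - ∑ a ∈ A, (a : G → ℂ) g + ∑ b ∈ B, (b : G → ℂ) g +
    (σ : ℂ) * (χ : G → ℂ) g = 0
  rowX : ∀ χ ∈ X, ∀ u : (ZMod p)ˣ, bInt hS χ (oneK x L) (u : ZMod p) ^ 2 ≤ 1
  sumX : ∀ i : ZMod p, i ≠ 0 → ∑ c ∈ X, (c : G → ℂ) (pw x i) = -(σ : ℂ)

include hS

theorem bInt_oneG (u : (ZMod p)ˣ) : bInt hS (oneG G) (oneK x L) (u : ZMod p) = -1 := by
  have := Fintype.ofFinite (K x L)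
  have hd : ∀ i : ZMod p, dec (x := x) (oneG G : G → ℂ) (oneK x L : K x L → ℂ) i = 1 := fun i => by
    rw [dec_eq]
    exact Char.classInner_irr_self (Char.isIrrCharacter_one (G := K x L))
  have hN : ∀ j, multN hS (oneG G) (oneK x L) j = if j = 0 then 1 else 0 := by
    intro j
    apply Nat.cast_injective (R := ℂ)
    rw [← multN_spec hS, mult]
    simp only [hd, mul_one]
    rw [Finset.sum_congr rfl (g := fun i => ζ (i * -j)) fun i _ => by rw [mul_neg], sum_ζ_mul]
    simp only [neg_eq_zero]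
    split_ifs <;> simp [hS.hp.ne_zero]
  rw [bInt_eq_sub, hN, hN, if_neg u.ne_zero, if_pos rfl]
  norm_num

variable (hM : IsPModular p M)
include hM

theorem cast_degree {χ : IrrCharacter G} (hχ : χ ∈ principalBlock M G) :
    ((charDegree (χ : G → ℂ) : ℕ) : ZMod p) = ((rowSum hS χ : ℤ) : ZMod p) := by
  obtain ⟨m, hm, -⟩ := degree_eq hS hM hχ
  have h := congrArg (Int.cast : ℤ → ZMod p) hm
  push_cast at h
  rwa [ZMod.natCast_self, zero_mul, add_zero] at h

variable {n : ℕ} (hn : Nat.card (Sylow p G) = 1 + n * p) (hperf : commutator G = ⊤) (hF : ¬ HasForm p n)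
include hn hperf hF

theorem const_degree {χ : IrrCharacter G} (hχ : χ ∈ principalBlock M G) (hne : χ ≠ oneG G) {δ : ℤ}
    (hδ : δ = 1 ∨ δ = -1) (hrow : ∀ u : (ZMod p)ˣ, bInt hS χ (oneK x L) (u : ZMod p) = δ) :
    (charDegree (χ : G → ℂ) = 1 + n * p ∧ rowSum hS χ = -((p - 1 : ℕ) : ℤ) ∧ δ = -1) ∨
      (charDegree (χ : G → ℂ) = p - 1 ∧ rowSum hS χ = ((p - 1 : ℕ) : ℤ) ∧ δ = 1) ∨
      ((K x L).index = p - 1 ∧ charDegree (χ : G → ℂ) = (p - 1) * (1 + n * p) ∧ δ = 1) := by
  have hrs : rowSum hS χ = δ * ((p - 1 : ℕ) : ℤ) := sum_bInt_const hS hrow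
  have hdvd : charDegree (χ : G → ℂ) ∣ (K x L).index * (1 + n * p) := by
    refine dvd_of_sum hS hM hn (fun _ : Unit => χ) (fun _ => rfl) (charDegree_pos χ) (ε := -δ) (by omega) ?_
    rw [Fintype.sum_unique, ← hS.pw_one, apply_pw_const hS hM hχ hrow one_ne_zero, Int.cast_neg]
  have hf1 : 1 < charDegree (χ : G → ℂ) := by
    have := charDegree_pos χ
    by_contra h
    exact hne (linear_eq_one hperf (by omega))
  have hc := cast_degree hS hM hχ
  rw [hrs, Int.cast_mul, Int.cast_natCast, cast_pred hS.hp] at hc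
  rcases hδ with rfl | rfl
  · rw [Int.cast_one, one_mul] at hc
    rcases neg_degree hS.hp (index_K_dvd hS) hc hdvd with h | h | h
    · exact absurd h hF
    · exact Or.inr (Or.inl ⟨h, by rw [hrs, one_mul], rfl⟩)
    · exact Or.inr (Or.inr ⟨h.1, h.2, rfl⟩)
  · rw [Int.cast_neg, Int.cast_one, neg_mul_neg, one_mul] at hc
    rcases pos_degree hS.hp (index_K_dvd hS) hf1 hc hdvd with h | h
    · exact absurd h hF
    · exact Or.inl ⟨h, by rw [hrs, neg_one_mul], rfl⟩

set_option maxHeartbeats 1600000 in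
open scoped Classical in
theorem principal_shape (hcore : pPrimeCore p G = ⊥) :
    K x L = ⊥ ∧ ((∃ A B X, 2 ≤ Finset.card X ∧ Shape hS M n (K x L).index 1 A B X) ∨
      ∃ A B X f₀, Finset.card X * f₀ = 1 + n * p ∧ Shape hS M n f₀ (-1) A B X) := by
  have hp := hS.hp
  have := Fintype.ofFinite (IrrCharacter G)
  have := Fintype.ofFinite G
  have he2 := two_le_index hS hperf
  have hn1 := one_le_of_perfect hS hperf hn
  have hnp : p ≤ n * p := Nat.le_mul_of_pos_left p hn1
  have hp3 : 3 ≤ p := by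
    have := Nat.le_of_dvd (by have := hp.two_le; omega) (index_K_dvd hS)
    omega
  obtain ⟨hP, h1P⟩ := principal_isPBlock (G := G) hM
  obtain ⟨hk, exc, ε, δ, hinj, hexcB, hε, hexc, hcst, hrel⟩ := block_structure hS hM hP (lies_principal hS hM)
  have het : (K x L).index * Nat.card ((ZMod p)ˣ ⧸ U hS (oneK x L : K x L → ℂ)) = p - 1 := index_K_mul hS
  rw [card_U_one hS] at hk
  set e := (K x L).index with he
  set t := Nat.card ((ZMod p)ˣ ⧸ U hS (oneK x L : K x L → ℂ)) with ht
  set F := Finset.univ.filter (fun χ => χ ∈ principalBlock M G ∧ χ ∉ Set.range exc) with hFdef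
  have h11 : ¬ p ∣ orderOf (1 : G) := by rw [orderOf_one]; exact hp.not_dvd_one
  have hFcard : F.card + t = e + t := by
    rw [← hk, ht, Nat.card_eq_fintype_card, ← Finset.card_univ, ← Finset.card_image_of_injective _ hinj,
      ← Finset.card_union_of_disjoint (Finset.disjoint_left.mpr fun a ha hb => by
        obtain ⟨c', -, rfl⟩ := Finset.mem_image.mp hb
        exact (Finset.mem_filter.mp ha).2.2 (Set.mem_range_self c')),
      Nat.card_eq_fintype_card, Fintype.card_subtype]
    congr 1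
    ext a
    simp only [hFdef, Finset.mem_filter, Finset.mem_univ, true_and, Finset.mem_union, Finset.mem_image, Set.mem_range]
    constructor
    · rintro (h | ⟨y, rfl⟩)
      · exact h.1
      · exact hexcB y
    · intro h
      by_cases h' : ∃ y, exc y = a
      · exact Or.inr h'
      · exact Or.inl ⟨h, h'⟩
  rcases Nat.lt_or_ge t 2 with ht1 | ht2
  · -- one exceptional class: all rows are constant
    have ht1 : t = 1 := le_antisymm (by omega) Nat.card_pos
    rw [ht1, mul_one] at het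
    haveI : Subsingleton ((ZMod p)ˣ ⧸ U hS (oneK x L : K x L → ℂ)) := (Nat.card_eq_one_iff_unique.mp ht1).1
    let c₀ : ((ZMod p)ˣ ⧸ U hS (oneK x L : K x L → ℂ)) := Classical.arbitrary ((ZMod p)ˣ ⧸ U hS (oneK x L : K x L → ℂ))
    let δ' : IrrCharacter G → ℤ := fun χ => if χ = exc c₀ then ε else δ χ
    have hc0 : ∀ χ, χ ∈ Set.range exc ↔ χ = exc c₀ :=
      fun χ => ⟨fun ⟨c, hc⟩ => by rw [← hc, Subsingleton.elim c c₀], fun h => ⟨c₀, h.symm⟩⟩
    set PB := Finset.univ.filter (fun χ => χ ∈ principalBlock M G) with hPB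
    have hrow : ∀ χ ∈ PB, (δ' χ = 1 ∨ δ' χ = -1) ∧ ∀ u : (ZMod p)ˣ, bInt hS χ (oneK x L) (u : ZMod p) = δ' χ := by
      intro χ hχ
      by_cases h : χ = exc c₀
      · subst h
        refine ⟨by simp only [δ', if_pos rfl]; exact hε, fun u => ?_⟩
        rw [hexc, if_pos (Subsingleton.elim _ _)]
        simp [δ']
      · simp only [δ', if_neg h]
        exact hcst χ (Finset.mem_filter.mp hχ).2 fun hh => h ((hc0 χ).mp hh)
    have hPBeq : PB = insert (exc c₀) F := by
      ext a
      simp only [hPB, hFdef, Finset.mem_filter, Finset.mem_univ, true_and, Finset.mem_insert, hc0]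
      refine ⟨fun h => ?_, ?_⟩
      · by_cases h' : a = exc c₀
        · exact Or.inl h'
        · exact Or.inr ⟨h, h'⟩
      · rintro (rfl | h)
        · exact hexcB c₀
        · exact h.1
    have hexcF : exc c₀ ∉ F := fun h => (Finset.mem_filter.mp h).2.2 ⟨c₀, rfl⟩
    have hPBcard : PB.card = p := by rw [hPBeq, Finset.card_insert_of_notMem hexcF]; omega
    have hrel' : ∀ g : G, ¬ p ∣ orderOf g → ∑ χ ∈ PB, (δ' χ : ℂ) * (χ : G → ℂ) g = 0 := by
      intro g hg
      rw [hPBeq, Finset.sum_insert hexcF, show δ' (exc c₀) = ε from if_pos rfl,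
        Finset.sum_congr rfl (g := fun χ : IrrCharacter G => (δ χ : ℂ) * (χ : G → ℂ) g) fun χ hχ => by
          rw [show δ' χ = δ χ from if_neg fun h => hexcF (by rw [← h]; exact hχ)], add_comm]
      have h := hrel g hg c₀
      rw [Finset.sum_congr (s₂ := F) (by ext; simp [hFdef]) fun _ _ => rfl] at h
      exact h
    have honePB : oneG G ∈ PB := Finset.mem_filter.mpr ⟨Finset.mem_univ _, h1P⟩
    have hδone : δ' (oneG G) = -1 := by rw [← (hrow _ honePB).2 1, bInt_oneG hS]
    have htype := fun χ (hχ : χ ∈ PB.erase (oneG G)) =>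
      const_degree hS hM hn hperf hF (Finset.mem_filter.mp (Finset.mem_of_mem_erase hχ)).2
        (Finset.ne_of_mem_erase hχ) (hrow χ (Finset.mem_of_mem_erase hχ)).1 (hrow χ (Finset.mem_of_mem_erase hχ)).2
    have hrel1 : (-1 : ℤ) + ∑ χ ∈ PB.erase (oneG G), δ' χ * (charDegree (χ : G → ℂ) : ℤ) = 0 := by
      have h := hrel' 1 h11
      rw [← Finset.add_sum_erase _ _ honePB, hδone, oneG_apply] at h
      apply Int.cast_injective (α := ℂ)
      push_cast at h ⊢
      rw [← h, mul_one]
      congr 1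
      exact Finset.sum_congr rfl fun χ _ => by rw [charDegree_cast]
    obtain ⟨θ, hθ, hθd⟩ : ∃ θ ∈ PB.erase (oneG G), charDegree (θ : G → ℂ) = p - 1 ∧
        rowSum hS θ = ((p - 1 : ℕ) : ℤ) := by
      by_contra h
      push Not at h
      have hdvd : ((1 + n * p : ℕ) : ℤ) ∣ ∑ χ ∈ PB.erase (oneG G), δ' χ * (charDegree (χ : G → ℂ) : ℤ) := by
        refine Finset.dvd_sum fun χ hχ => dvd_mul_of_dvd_right (Int.natCast_dvd_natCast.mpr ?_) _
        rcases htype χ hχ with h' | h' | h'
        · rw [h'.1]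
        · exact absurd h'.2.1 (h χ hχ h'.1)
        · rw [h'.2.1]; exact dvd_mul_left _ _
      rw [show (∑ χ ∈ PB.erase (oneG G), δ' χ * (charDegree (χ : G → ℂ) : ℤ)) = 1 by omega] at hdvd
      have := Int.le_of_dvd one_pos hdvd
      omega
    have hK := K_bot hS hM hcore (Finset.mem_filter.mp (Finset.mem_of_mem_erase hθ)).2 (by rw [hθd.1, hθd.2])
    have hcardL : Nat.card L = e := by
      have := (K x L).card_mul_index
      rw [hK, Subgroup.card_bot, one_mul] at this
      exact (this.symm.trans (by rw [he, hK]))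
    have hno : ∀ χ : IrrCharacter G, charDegree (χ : G → ℂ) ≠ (p - 1) * (1 + n * p) := by
      intro χ hχ
      have hsq : (charDegree (χ : G → ℂ)) ^ 2 ≤ Nat.card G := by
        have h := Char.sum_sq_degrees (G := G)
        have h2 : ((∑ ψ : IrrCharacter G, charDegree (ψ : G → ℂ) ^ 2 : ℕ) : ℂ) = (Nat.card G : ℂ) := by
          rw [← h, Nat.cast_sum]
          exact Finset.sum_congr rfl fun ψ _ => by rw [Nat.cast_pow, charDegree_cast]
        rw [← Nat.cast_inj.mp h2]
        exact Finset.single_le_sum (f := fun ψ : IrrCharacter G => charDegree (ψ : G → ℂ) ^ 2)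
          (fun _ _ => Nat.zero_le _) (Finset.mem_univ χ)
      rw [hχ, card_G hS hn, hcardL, het, show p * (p - 1) * (1 + n * p) = (p - 1) * (1 + n * p) * p by ring, pow_two] at hsq
      have := Nat.le_of_mul_le_mul_left hsq (Nat.mul_pos (by omega) (by omega))
      have := Nat.le_mul_of_pos_left (1 + n * p) (show 0 < p - 1 by omega)
      omega
    have htype' := fun χ hχ => (or_assoc.mpr (htype χ hχ)).resolve_right fun h => hno χ h.2.1
    obtain ⟨χ₁, hχ₁, hχ₁d⟩ : ∃ χ₁ ∈ PB.erase (oneG G), charDegree (χ₁ : G → ℂ) = 1 + n * p ∧ δ' χ₁ = -1 ∧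
        rowSum hS χ₁ = -((p - 1 : ℕ) : ℤ) := by
      by_contra h
      push Not at h
      rw [Finset.sum_congr rfl (g := fun _ => ((p - 1 : ℕ) : ℤ)) fun χ hχ => ?_, Finset.sum_const,
        Finset.card_erase_of_mem honePB, hPBcard, nsmul_eq_mul] at hrel1
      · have : (2 : ℤ) * 2 ≤ ((p - 1 : ℕ) : ℤ) * ((p - 1 : ℕ) : ℤ) :=
          mul_le_mul (by omega) (by omega) (by omega) (by omega)
        omega
      · rcases htype' χ hχ with h' | h'
        · exact absurd h'.2.1 (h χ hχ h'.1 h'.2.2)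
        · rw [h'.2.2, h'.1, one_mul]
    refine ⟨hK, Or.inr ⟨((PB.erase (oneG G)).erase χ₁).filter (fun χ => δ' χ = -1),
      (PB.erase (oneG G)).filter (fun χ => δ' χ = 1), {χ₁}, 1 + n * p, by simp, ?_⟩⟩
    have hBeq : (PB.erase (oneG G)).filter (fun χ => δ' χ = 1) = ((PB.erase (oneG G)).erase χ₁).filter (fun χ => δ' χ = 1) := by
      ext a
      simp only [Finset.mem_filter, Finset.mem_erase]
      exact ⟨fun h => ⟨⟨fun e => by rw [e, hχ₁d.2.1] at h; omega, h.1⟩, h.2⟩, fun h => ⟨h.1.2, h.2⟩⟩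
    have hneg : ∀ χ ∈ (PB.erase (oneG G)).erase χ₁, (¬ δ' χ = 1) = (δ' χ = -1) := fun χ hχ => by
      have := (hrow χ (Finset.mem_of_mem_erase (Finset.mem_of_mem_erase hχ))).1
      exact propext ⟨fun h => this.resolve_left h, fun h => by omega⟩
    refine ⟨Or.inr rfl, fun χ hχ => ?_, fun χ hχ => ?_, fun χ hχ => ?_, ?_, ?_, ?_, fun χ hχ => ?_, ?_, ?_, ?_, ?_, ?_⟩
    · obtain ⟨h1, h2⟩ := Finset.mem_filter.mp hχ
      have h3 := Finset.mem_of_mem_erase h1
      refine ⟨(Finset.mem_filter.mp (Finset.mem_of_mem_erase h3)).2, ?_, ?_, Finset.ne_of_mem_erase h3⟩ <;>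
        rcases htype' χ h3 with h' | h' <;> first | exact h'.1 | exact h'.2.1 | omega
    · obtain ⟨h3, h2⟩ := Finset.mem_filter.mp hχ
      refine ⟨(Finset.mem_filter.mp (Finset.mem_of_mem_erase h3)).2, ?_, ?_, Finset.ne_of_mem_erase h3⟩ <;>
        rcases htype' χ h3 with h' | h' <;> first | exact h'.1 | exact h'.2.1 | omega
    · rw [Finset.mem_singleton.mp hχ]
      refine ⟨(Finset.mem_filter.mp (Finset.mem_of_mem_erase hχ₁)).2, hχ₁d.1, ?_, Finset.ne_of_mem_erase hχ₁⟩
      rw [hχ₁d.2.2, ← he, het, neg_one_mul]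
    · refine Finset.disjoint_left.mpr fun a ha hb => ?_
      have := (Finset.mem_filter.mp ha).2
      have := (Finset.mem_filter.mp hb).2
      omega
    · exact Finset.disjoint_singleton_right.mpr fun h => Finset.ne_of_mem_erase (Finset.mem_filter.mp h).1 rfl
    · exact Finset.disjoint_singleton_right.mpr fun h => by
        have := (Finset.mem_filter.mp h).2
        rw [hχ₁d.2.1] at this
        omega
    · by_cases h1 : χ = oneG G
      · exact Or.inl h1
      by_cases h2 : χ = χ₁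
      · exact Or.inr (Or.inr (Or.inr (Finset.mem_singleton.mpr h2)))
      have h3 : χ ∈ PB.erase (oneG G) := Finset.mem_erase.mpr ⟨h1, Finset.mem_filter.mpr ⟨Finset.mem_univ _, hχ⟩⟩
      rcases (hrow χ (Finset.mem_of_mem_erase h3)).1 with h4 | h4
      · exact Or.inr (Or.inr (Or.inl (Finset.mem_filter.mpr ⟨h3, h4⟩)))
      · exact Or.inr (Or.inl (Finset.mem_filter.mpr ⟨Finset.mem_erase.mpr ⟨h2, h3⟩, h4⟩))
    · rw [hBeq, ← Finset.filter_congr (fun χ hχ => Eq.to_iff (hneg χ hχ)), add_comm (Finset.card _),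
        Finset.card_filter_add_card_filter_not, Finset.card_erase_of_mem hχ₁, Finset.card_erase_of_mem honePB,
        hPBcard]
      omega
    · rw [Finset.card_singleton, mul_one, ← he, het]
    · intro g hg χ hχ
      rw [Finset.mem_singleton.mp hχ]
      have h := hrel' g hg
      rw [← Finset.add_sum_erase _ _ honePB, hδone, oneG_apply, ← Finset.add_sum_erase _ _ hχ₁, hχ₁d.2.1,
        ← Finset.sum_filter_add_sum_filter_not ((PB.erase (oneG G)).erase χ₁) (fun χ => δ' χ = 1),
        Finset.filter_congr (fun χ hχ => Eq.to_iff (hneg χ hχ)), ← hBeq,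
        Finset.sum_congr rfl (g := fun b : IrrCharacter G => (b : G → ℂ) g) fun b hb => by
          rw [(Finset.mem_filter.mp hb).2, Int.cast_one, one_mul],
        Finset.sum_congr (s₁ := Finset.filter (fun χ => δ' χ = -1) _) rfl (g := fun a : IrrCharacter G => -((a : G → ℂ) g)) fun a ha => by
          rw [(Finset.mem_filter.mp ha).2, Int.cast_neg, Int.cast_one, neg_one_mul],
        Finset.sum_neg_distrib] at h
      push_cast at h ⊢
      linear_combination h
    · intro χ hχ u
      rw [Finset.mem_singleton.mp hχ, (hrow _ (Finset.mem_of_mem_erase hχ₁)).2 u, hχ₁d.2.1]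
      norm_num
    · intro i hi
      rw [Finset.sum_singleton, apply_pw_const hS hM (Finset.mem_filter.mp (Finset.mem_of_mem_erase hχ₁)).2
        (fun u => ((hrow _ (Finset.mem_of_mem_erase hχ₁)).2 u).trans hχ₁d.2.1) hi]
  · -- several exceptional classes
    have hone : oneG G ∉ Set.range exc := by
      rintro ⟨c, hc⟩
      haveI : Nontrivial ((ZMod p)ˣ ⧸ U hS (oneK x L : K x L → ℂ)) := Finite.one_lt_card_iff_nontrivial.mp ht2
      obtain ⟨c', hc'⟩ := exists_ne c
      have h := hexc c c'.out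
      rw [hc, bInt_oneG hS, if_neg (fun e => hc' ((Quotient.out_eq c').symm.trans e))] at h
      omega
    have honeF : oneG G ∈ F := Finset.mem_filter.mpr ⟨Finset.mem_univ _, h1P, hone⟩
    have hδone : δ (oneG G) = -1 := by rw [← (hcst (oneG G) h1P hone).2 1, bInt_oneG hS]
    have heP : e < p - 1 := by
      have := Nat.mul_le_mul_left e ht2
      omega
    have htype : ∀ χ ∈ F.erase (oneG G), (charDegree (χ : G → ℂ) = 1 + n * p ∧ rowSum hS χ = -((p - 1 : ℕ) : ℤ) ∧ δ χ = -1) ∨
        (charDegree (χ : G → ℂ) = p - 1 ∧ rowSum hS χ = ((p - 1 : ℕ) : ℤ) ∧ δ χ = 1) := by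
      intro χ hχ
      obtain ⟨hne, hm⟩ := Finset.mem_erase.mp hχ
      obtain ⟨hB, hr⟩ := (Finset.mem_filter.mp hm).2
      rcases const_degree hS hM hn hperf hF hB hne (hcst χ hB hr).1 (hcst χ hB hr).2 with h | h | h
      · exact Or.inl h
      · exact Or.inr h
      · have := h.1
        omega
    set A := (F.erase (oneG G)).filter (fun χ => δ χ = -1) with hA
    set B := (F.erase (oneG G)).filter (fun χ => δ χ = 1) with hB
    have hneg : ∀ χ ∈ F.erase (oneG G), (¬ δ χ = 1) = (δ χ = -1) := fun χ hχ => by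
      rcases htype χ hχ with h | h <;> exact propext ⟨fun _ => by omega, fun _ => by omega⟩
    have hAmem : ∀ χ ∈ A, χ ∈ principalBlock M G ∧ charDegree (χ : G → ℂ) = 1 + n * p ∧
        rowSum hS χ = -((p - 1 : ℕ) : ℤ) ∧ χ ≠ oneG G := by
      intro χ hχ
      obtain ⟨h3, h2⟩ := Finset.mem_filter.mp hχ
      refine ⟨(Finset.mem_filter.mp (Finset.mem_of_mem_erase h3)).2.1, ?_, ?_, Finset.ne_of_mem_erase h3⟩ <;>
        rcases htype χ h3 with h' | h' <;> first | exact h'.1 | exact h'.2.1 | omega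
    have hBmem : ∀ χ ∈ B, χ ∈ principalBlock M G ∧ charDegree (χ : G → ℂ) = p - 1 ∧
        rowSum hS χ = ((p - 1 : ℕ) : ℤ) ∧ χ ≠ oneG G := by
      intro χ hχ
      obtain ⟨h3, h2⟩ := Finset.mem_filter.mp hχ
      refine ⟨(Finset.mem_filter.mp (Finset.mem_of_mem_erase h3)).2.1, ?_, ?_, Finset.ne_of_mem_erase h3⟩ <;>
        rcases htype χ h3 with h' | h' <;> first | exact h'.1 | exact h'.2.1 | omega
    have hABcard : A.card + B.card + 1 = e := by
      rw [hA, ← Finset.filter_congr (fun χ hχ => Eq.to_iff (hneg χ hχ)), add_comm (Finset.card _), hB,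
        Finset.card_filter_add_card_filter_not, Finset.card_erase_of_mem honeF]
      have : 0 < F.card := Finset.card_pos.mpr ⟨_, honeF⟩
      omega
    have hrel2 : ∀ g : G, ¬ p ∣ orderOf g → ∀ c, -1 - ∑ a ∈ A, (a : G → ℂ) g + ∑ b ∈ B, (b : G → ℂ) g +
        (ε : ℂ) * (exc c : G → ℂ) g = 0 := by
      intro g hg c
      have h := hrel g hg c
      rw [Finset.sum_congr (s₂ := F) (by ext; simp [hFdef]) fun _ _ => rfl, ← Finset.add_sum_erase _ _ honeF,
        hδone, oneG_apply, ← Finset.sum_filter_add_sum_filter_not (F.erase (oneG G)) (fun χ => δ χ = 1),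
        Finset.filter_congr (fun χ hχ => Eq.to_iff (hneg χ hχ)), ← hA, ← hB,
        Finset.sum_congr rfl (g := fun b : IrrCharacter G => (b : G → ℂ) g) fun b hb => by
          rw [(Finset.mem_filter.mp hb).2, Int.cast_one, one_mul],
        Finset.sum_congr (s₁ := A) rfl (g := fun a : IrrCharacter G => -((a : G → ℂ) g)) fun a ha => by
          rw [(Finset.mem_filter.mp ha).2, Int.cast_neg, Int.cast_one, neg_one_mul],
        Finset.sum_neg_distrib] at h
      push_cast at h
      linear_combination h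
    have hdeg1 : ∀ c, (-1 : ℤ) - A.card * (1 + n * p : ℕ) + B.card * (p - 1 : ℕ) +
        ε * (charDegree (exc c : G → ℂ) : ℤ) = 0 := by
      intro c
      have h := hrel2 1 h11 c
      rw [Finset.sum_congr rfl fun a ha => by rw [← charDegree_cast a, (hAmem a ha).2.1],
        Finset.sum_congr (s₁ := B) rfl fun b hb => by rw [← charDegree_cast b, (hBmem b hb).2.1],
        Finset.sum_const, Finset.sum_const, nsmul_eq_mul, nsmul_eq_mul, ← charDegree_cast (exc c)] at h
      apply Int.cast_injective (α := ℂ)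
      simp only [Int.cast_add, Int.cast_sub, Int.cast_mul, Int.cast_neg, Int.cast_one, Int.cast_natCast, Int.cast_zero]
      exact h
    obtain ⟨c₁⟩ : Nonempty ((ZMod p)ˣ ⧸ U hS (oneK x L : K x L → ℂ)) := inferInstance
    set f₀ := charDegree (exc c₁ : G → ℂ) with hf0
    have hsame : ∀ c, charDegree (exc c : G → ℂ) = f₀ := by
      intro c
      have h1 := hdeg1 c
      have h2 := hdeg1 c₁
      rw [← hf0] at h2
      rcases hε with h | h <;> rw [h] at h1 h2 <;> omega
    have hrs : ∀ c, rowSum hS (exc c) = ε * (e : ℤ) := fun c => by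
      rw [rowSum, sum_bInt_exc hS (hexc c), card_U_one hS]
    have hsum : ∀ i : ZMod p, i ≠ 0 → ∑ c, (exc c : G → ℂ) (pw x i) = -(ε : ℂ) :=
      fun i hi => sum_exc hS hM hexcB (f := fun u : (ZMod p)ˣ => (u : ((ZMod p)ˣ ⧸ U hS (oneK x L : K x L → ℂ)))) (fun c u => by convert hexc c u using 2) hi
    have hdvd : f₀ ∣ e * (1 + n * p) := dvd_of_sum hS hM hn exc hsame (charDegree_pos _) (ε := -ε) (by omega)
      (by
        have h := hsum 1 one_ne_zero
        rw [hS.pw_one] at h
        rw [h, Int.cast_neg])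
    have hcast := cast_degree hS hM (hexcB c₁)
    rw [← hf0, hrs, Int.cast_mul, Int.cast_natCast] at hcast
    have hXcard : (Finset.univ.image exc).card = t := by
      rw [Finset.card_image_of_injective _ hinj, Finset.card_univ, ← Nat.card_eq_fintype_card]
    have hshape : Shape hS M n f₀ ε A B (Finset.univ.image exc) := by
      refine ⟨hε, hAmem, hBmem, fun χ hχ => ?_, ?_, ?_, ?_, fun χ hχ => ?_, hABcard, ?_, ?_, ?_, ?_⟩
      · obtain ⟨c, -, rfl⟩ := Finset.mem_image.mp hχ
        exact ⟨hexcB c, hsame c, hrs c, fun h => hone ⟨c, h⟩⟩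
      · refine Finset.disjoint_left.mpr fun a ha hb => ?_
        have := (Finset.mem_filter.mp ha).2
        have := (Finset.mem_filter.mp hb).2
        omega
      all_goals try (
        refine Finset.disjoint_left.mpr fun a ha hb => ?_
        obtain ⟨c, -, rfl⟩ := Finset.mem_image.mp hb
        exact (Finset.mem_filter.mp (Finset.mem_of_mem_erase (Finset.mem_filter.mp ha).1)).2.2 ⟨c, rfl⟩)
      · by_cases h1 : χ = oneG G
        · exact Or.inl h1
        by_cases h2 : χ ∈ Set.range exc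
        · obtain ⟨c, rfl⟩ := h2
          exact Or.inr (Or.inr (Or.inr (Finset.mem_image_of_mem _ (Finset.mem_univ c))))
        have h3 : χ ∈ F.erase (oneG G) := Finset.mem_erase.mpr ⟨h1, Finset.mem_filter.mpr ⟨Finset.mem_univ _, hχ, h2⟩⟩
        rcases htype χ h3 with h4 | h4
        · exact Or.inr (Or.inl (Finset.mem_filter.mpr ⟨h3, h4.2.2⟩))
        · exact Or.inr (Or.inr (Or.inl (Finset.mem_filter.mpr ⟨h3, h4.2.2⟩)))
      · rw [hXcard, ← he, het]
      · intro g hg χ hχ
        obtain ⟨c, -, rfl⟩ := Finset.mem_image.mp hχ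
        exact hrel2 g hg c
      · intro χ hχ u
        obtain ⟨c, -, rfl⟩ := Finset.mem_image.mp hχ
        rw [hexc]
        split_ifs <;> rcases hε with h | h <;> simp [h]
      · intro i hi
        rw [Finset.sum_image fun a _ b _ h => hinj h, hsum i hi]
    have hd := hdeg1 c₁
    rw [← hf0] at hd
    rcases hε with hε1 | hε1
    · rw [hε1] at hcast hd hshape hrs
      rw [Int.cast_one, one_mul] at hcast
      have hfe : f₀ = e := by
        rcases exc_pos_degree hS.hp (index_K_dvd hS) hcast hdvd with h | h | h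
        · exact absurd h hF
        · exact h
        · exfalso
          rw [h] at hd
          have h1 : (A.card : ℤ) + 1 ≤ e := by omega
          have h2 : (0 : ℤ) ≤ (B.card : ℤ) * ((p - 1 : ℕ) : ℤ) := by positivity
          have h3 := mul_le_mul_of_nonneg_right h1 (show (0 : ℤ) ≤ ((1 + n * p : ℕ) : ℤ) by omega)
          push_cast at hd h3
          rw [add_mul, one_mul] at h3
          have : (0 : ℤ) < (n : ℤ) * p := by exact_mod_cast (show 0 < n * p by omega)
          linarith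
      refine ⟨K_bot hS hM hcore (hexcB c₁) ?_, Or.inl ⟨A, B, _, hXcard.symm ▸ ht2, hfe ▸ hshape⟩⟩
      rw [hrs, ← hf0, hfe, one_mul]
    · rw [hε1] at hcast hd hshape
      rw [Int.cast_neg, Int.cast_one, neg_one_mul] at hcast
      have htf : t * f₀ = 1 + n * p := (exc_neg_degree hS.hp het ht2 hcast hdvd).resolve_left hF
      obtain ⟨θ, hθ⟩ : B.Nonempty := by
        by_contra h
        rw [Finset.not_nonempty_iff_eq_empty] at h
        rw [h, Finset.card_empty, Nat.cast_zero, zero_mul] at hd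
        have h2 : (0 : ℤ) ≤ (A.card : ℤ) * ((1 + n * p : ℕ) : ℤ) := by positivity
        omega
      exact ⟨K_bot hS hM hcore (hBmem θ hθ).1 (by rw [(hBmem θ hθ).2.1, (hBmem θ hθ).2.2.1]),
        Or.inr ⟨A, B, _, f₀, by rw [hXcard, htf], hshape⟩⟩

end Cfsg.Agent.BrauerN
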