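/-
The normalizer `⟨x⟩ L` and the cosets fixed by `L` when `C(x) = ⟨x⟩` (namespace `Cfsg.Agent.BrauerN`).

Main results: `conj_coset`, `exists_fixed`, `fixed_apply`, `irr_cases`, `card_L`, `isCyclic_L`, `fixCard`,
`fixCard_pw`, `exists_rep`, `card_normalizer_L`, `centralizer_le_normalizer`.
-/
import Cfsg.Agent.Lib.BrauerN.Block
import Cfsg.Agent.Lib.Char.PRegular

set_option autoImplicit false
set_option linter.unusedSectionVars false
set_option linter.style.haveILetI false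

namespace Cfsg.Agent.BrauerN

open Cfsg Cfsg.Agent.Blocks Cfsg.Agent.CyclicDefect

variable {G : Type*} [Group G] [Finite G] {p : ℕ} [Fact p.Prime] {x : G} {L : Subgroup G}

/-- The number of conjugates of `⟨x⟩` normalized by `g`. -/
noncomputable def fixCard (x g : G) : ℕ :=
  Nat.card (MulAction.fixedBy (G ⧸ Subgroup.normalizer (Subgroup.zpowers x : Set G)) g)

variable (hS : Setting p x L) (hK : K x L = ⊥)
include hS hK

theorem card_L : Nat.card L = (K x L).index := by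
  have h := (K x L).card_mul_index
  rw [hK, Subgroup.card_bot, one_mul] at h
  rw [hK]
  exact h.symm

theorem alpha_injective : Function.Injective (CyclicDefect.alpha hS) :=
  (MonoidHom.ker_eq_bot_iff _).mp ((CyclicDefect.ker_alpha hS).trans hK)

theorem isCyclic_L : IsCyclic L :=
  isCyclic_of_injective (CyclicDefect.alpha hS) (alpha_injective hS hK)

theorem alpha_ne_one {y : L} (hy : y ≠ 1) : ((CyclicDefect.alpha hS y : (ZMod p)ˣ) : ZMod p) ≠ 1 := fun h =>
  hy (alpha_injective hS hK (by rw [map_one]; exact Units.ext (h.trans Units.val_one.symm)))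

/-- `⟨x⟩ y` is one class under `⟨x⟩`. -/
theorem conj_coset {y : L} (hy : y ≠ 1) (i : ZMod p) :
    ∃ j : ZMod p, pw x j * (y : G) * pw x (-j) = pw x i * (y : G) := by
  have ha : (1 : ZMod p) - ((CyclicDefect.alpha hS y : (ZMod p)ˣ) : ZMod p) ≠ 0 := sub_ne_zero.mpr (alpha_ne_one hS hK hy).symm
  refine ⟨((1 : ZMod p) - ((CyclicDefect.alpha hS y : (ZMod p)ˣ) : ZMod p))⁻¹ * i, ?_⟩
  set j := ((1 : ZMod p) - ((CyclicDefect.alpha hS y : (ZMod p)ˣ) : ZMod p))⁻¹ * i with hj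
  calc pw x j * (y : G) * pw x (-j) = pw x j * ((y : G) * pw x (-j) * (y : G)⁻¹) * (y : G) := by group
    _ = pw x (j + ((CyclicDefect.alpha hS y : (ZMod p)ˣ) : ZMod p) * (-j)) * (y : G) := by rw [CyclicDefect.alpha_spec, ← hS.pw_add]
    _ = pw x i * (y : G) := by
      congr 2
      rw [hj, show ∀ a b : ZMod p, a + b * (-a) = (1 - b) * a from fun a b => by ring, mul_inv_cancel_left₀ ha]

theorem apply_coset {f : G → ℂ} (hf : IsClassFunction G f) {y : L} (hy : y ≠ 1) (i : ZMod p) :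
    f (pw x i * (y : G)) = f (y : G) := by
  obtain ⟨j, hj⟩ := conj_coset hS hK hy i
  have hinv : pw x (-j) = (pw x j)⁻¹ := by
    rw [eq_inv_iff_mul_eq_one, ← hS.pw_add, neg_add_cancel, hS.pw_zero]
  rw [← hj, hinv]
  exact hf _ _

omit hK in
/-- The character on the fixed space of `⟨x⟩`. -/
theorem exists_fixed {χ : G → ℂ} (hχ : IsCharacter G χ) :
    ∃ φ : L → ℂ, IsCharacter L φ ∧ ∀ y : L, (p : ℂ) * φ y = ∑ i : ZMod p, χ (pw x i * (y : G)) := by
  obtain ⟨d, ρ, rfl⟩ := hχ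
  let W : Submodule ℂ (Fin d → ℂ) :=
    { carrier := {v | ∀ i : ZMod p, ρ (pw x i) v = v}
      add_mem' := fun {a b} ha hb i => by rw [map_add, ha i, hb i]
      zero_mem' := fun i => map_zero _
      smul_mem' := fun c a ha i => by rw [map_smul, ha i] }
  have hW : ∀ (y : L), ∀ v ∈ W, ρ (y : G) v ∈ W := by
    intro y v hv i
    have h1 : pw x i * (y : G) = (y : G) * pw x (((CyclicDefect.alpha hS y⁻¹ : (ZMod p)ˣ) : ZMod p) * i) := by
      have h := CyclicDefect.alpha_spec hS y⁻¹ i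
      rw [← h]
      simp [mul_assoc]
    rw [← Module.End.mul_apply, ← map_mul, h1, map_mul, Module.End.mul_apply, hv]
  let σ : Representation ℂ L W :=
    { toFun := fun y => (ρ (y : G)).restrict (fun v hv => hW y v hv)
      map_one' := by ext v; simp
      map_mul' := fun a b => by ext v; simp }
  refine ⟨σ.character, Char.isCharacter_character σ, fun y => ?_⟩
  let E : Module.End ℂ (Fin d → ℂ) := (p : ℂ)⁻¹ • ∑ i : ZMod p, ρ (pw x i)
  have hp0 : (p : ℂ) ≠ 0 := Nat.cast_ne_zero.mpr hS.hp.ne_zero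
  have hfix : ∀ v ∈ W, E v = v := by
    intro v hv
    simp only [E, LinearMap.smul_apply, LinearMap.sum_apply]
    rw [Finset.sum_congr rfl fun i _ => hv i, Finset.sum_const, Finset.card_univ, ZMod.card,
      ← Nat.cast_smul_eq_nsmul ℂ, smul_smul, inv_mul_cancel₀ hp0, one_smul]
  have hmem : ∀ v, (E * ρ (y : G)) v ∈ W := by
    intro v j
    rw [Module.End.mul_apply]
    simp only [E, LinearMap.smul_apply, LinearMap.sum_apply, map_smul, map_sum]
    congr 1
    refine Fintype.sum_equiv (Equiv.addLeft j) _ _ fun i => ?_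
    rw [← Module.End.mul_apply, ← map_mul, ← hS.pw_add]
    rfl
  have htr := LinearMap.trace_restrict_eq_of_forall_mem W (E * ρ (y : G)) hmem
  have hres : (E * ρ (y : G)).restrict (fun v _ => hmem v) = σ y := by
    ext v : 1
    apply Subtype.ext
    show E (ρ (y : G) v) = ρ (y : G) v
    exact hfix _ (hW y v v.2)
  rw [Representation.character, ← hres, htr]
  simp only [E, smul_mul_assoc, Finset.sum_mul, ← map_mul, map_smul, map_sum, smul_eq_mul]
  rw [← mul_assoc, mul_inv_cancel₀ hp0, one_mul]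
  rfl

/-- The values off the identity. -/
theorem fixed_apply {χ : G → ℂ} (hχ : IsCharacter G χ) {φ : L → ℂ}
    (hφ : ∀ y : L, (p : ℂ) * φ y = ∑ i : ZMod p, χ (pw x i * (y : G))) {y : L} (hy : y ≠ 1) :
    φ y = χ (y : G) := by
  have h := hφ y
  rw [Finset.sum_congr rfl fun i _ => apply_coset hS hK (Char.IsCharacter.isClassFunction hχ) hy i,
    Finset.sum_const, Finset.card_univ, ZMod.card, nsmul_eq_mul] at h
  exact mul_left_cancel₀ (Nat.cast_ne_zero.mpr hS.hp.ne_zero) h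

omit hK in
theorem fixed_one {χ : G → ℂ} {φ : L → ℂ}
    (hφ : ∀ y : L, (p : ℂ) * φ y = ∑ i : ZMod p, χ (pw x i * (y : G))) :
    (p : ℂ) * φ 1 = χ 1 + ∑ u : (ZMod p)ˣ, χ (pw x (u : ZMod p)) := by
  rw [hφ 1, ← Finset.add_sum_erase _ _ (Finset.mem_univ (0 : ZMod p)), OneMemClass.coe_one, mul_one, hS.pw_zero]
  congr 1
  refine (Finset.sum_bij (fun (u : (ZMod p)ˣ) _ => (u : ZMod p)) (fun u _ => Finset.mem_erase.mpr ⟨u.ne_zero, Finset.mem_univ _⟩)
    (fun a _ b _ e => Units.ext e) (fun j hj => ⟨Units.mk0 j (Finset.ne_of_mem_erase hj), Finset.mem_univ _, rfl⟩)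
    fun u _ => ?_).symm
  rw [mul_one]

section
variable {M : Ideal AlgInt} (hM : IsPModular p M)
include hM

/-- An irreducible character is in the principal block or has `p`-defect zero. -/
theorem irr_cases (χ : IrrCharacter G) :
    (χ ∈ principalBlock M G ∧ ¬ p ∣ charDegree (χ : G → ℂ)) ∨
      (χ ∉ principalBlock M G ∧ p ∣ charDegree (χ : G → ℂ) ∧ ∀ g : G, p ∣ orderOf g → (χ : G → ℂ) g = 0) := by
  have hp := hS.hp
  obtain ⟨hP, -⟩ := principal_isPBlock (G := G) hM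
  by_cases hd : p ∣ charDegree (χ : G → ℂ)
  · refine Or.inr ⟨fun h => not_dvd_of_lies hS hM hP (lies_principal hS hM) h hd, hd,
      Char.vanishes_of_defect_zero hp χ.2 (charDegree_cast χ).symm ?_⟩
    rw [hS.factorization_card]
    exact (hp.dvd_iff_one_le_factorization (charDegree_pos χ).ne').mp hd
  · refine Or.inl ⟨?_, hd⟩
    obtain ⟨η, hη⟩ := exists_lies_of_not_dvd hS hM χ hd
    haveI : Subsingleton (K x L) := by rw [hK]; infer_instance
    have hη1 : η = oneK x L := by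
      have h1 : (η : K x L → ℂ) 1 = 1 := Char.apply_one_eq_one_of_comm
        (fun a b => Subsingleton.elim _ _) η
      exact Subtype.ext (funext fun k => by rw [Subsingleton.elim k 1, h1]; rfl)
    rw [hη1] at hη
    rw [lies_unique hS hM hP ⟨χ, rfl⟩ (lies_principal hS hM) hη]
    exact mem_blockOf_self hM χ

end

/-- An element of order `p` of the normalizer lies in `⟨x⟩`. -/
theorem mem_zpowers_of_orderOf {g : G} (hg : g ∈ Subgroup.normalizer (Subgroup.zpowers x : Set G))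
    (ho : orderOf g = p) : g ∈ Subgroup.zpowers x := by
  obtain ⟨u, hu, l, hl, rfl⟩ := hS.hgen g hg
  obtain ⟨i, rfl⟩ := hS.exists_pw hu
  by_cases h1 : (⟨l, hl⟩ : L) = 1
  · rw [show l = 1 from congrArg Subtype.val h1, mul_one]
    exact hu
  exfalso
  obtain ⟨j, hj⟩ := conj_coset hS hK h1 i
  have hinv : pw x (-j) = (pw x j)⁻¹ := by
    rw [eq_inv_iff_mul_eq_one, ← hS.pw_add, neg_add_cancel, hS.pw_zero]
  rw [← hj, hinv, show pw x j * l * (pw x j)⁻¹ = MulAut.conj (pw x j) l from rfl, MulEquiv.orderOf_eq] at ho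
  exact hS.regular_L ⟨l, hl⟩ (dvd_of_eq ho.symm)

omit [Finite G] [Fact p.Prime] hS hK in
theorem fixedBy_iff (N : Subgroup G) (g a : G) :
    ((a : G) : G ⧸ N) ∈ MulAction.fixedBy (G ⧸ N) g ↔ a⁻¹ * g * a ∈ N := by
  rw [MulAction.mem_fixedBy, MulAction.Quotient.smul_coe, QuotientGroup.eq, smul_eq_mul,
    ← N.inv_mem_iff, show ((g * a)⁻¹ * a)⁻¹ = a⁻¹ * g * a by group]

theorem fixCard_pw {i : ZMod p} (hi : i ≠ 0) : fixCard x (pw x i) = 1 := by
  set N := Subgroup.normalizer (Subgroup.zpowers x : Set G)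
  have huniq : ∀ c ∈ MulAction.fixedBy (G ⧸ N) (pw x i), c = ((1 : G) : G ⧸ N) := by
    intro c hc
    obtain ⟨a, rfl⟩ := QuotientGroup.mk_surjective c
    rw [fixedBy_iff] at hc
    have ho : orderOf (a⁻¹ * pw x i * a) = p := by
      rw [show a⁻¹ * pw x i * a = MulAut.conj a⁻¹ (pw x i) by simp, MulEquiv.orderOf_eq, hS.orderOf_pw hi]
    have hmem := mem_zpowers_of_orderOf hS hK hc ho
    rw [QuotientGroup.eq]
    simp only [mul_one, inv_mem_iff]
    rw [Subgroup.mem_normalizer_iff]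
    have hz : Subgroup.zpowers (pw x i) = Subgroup.zpowers x :=
      Subgroup.eq_of_le_of_card_ge (Subgroup.zpowers_le.mpr (hS.pw_mem i))
        (by rw [Nat.card_zpowers, Nat.card_zpowers, hS.orderOf_pw hi, hS.hx])
    have heq : (Subgroup.zpowers x).map (MulAut.conj a⁻¹).toMonoidHom = Subgroup.zpowers x := by
      refine Subgroup.eq_of_le_of_card_ge ?_ (le_of_eq (Subgroup.card_map_of_injective (MulEquiv.injective _)).symm)
      conv_lhs => rw [← hz, MonoidHom.map_zpowers]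
      rw [Subgroup.zpowers_le]
      simpa using hmem
    intro h
    constructor
    · intro hh
      rw [← heq] at hh
      obtain ⟨w, hw, hwe⟩ := hh
      rw [← hwe]
      simpa [mul_assoc] using hw
    · intro hh
      rw [← heq]
      exact ⟨a * h * a⁻¹, hh, by simp [mul_assoc]⟩
  refine Nat.card_eq_one_iff_unique.mpr ⟨⟨fun c d => Subtype.ext ((huniq c c.2).trans (huniq d d.2).symm)⟩,
    ⟨⟨((1 : G) : G ⧸ N), (fixedBy_iff N _ _).mpr ?_⟩⟩⟩
  rw [inv_one, one_mul, mul_one]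
  exact Subgroup.le_normalizer (hS.pw_mem i)

/-- A coset fixed by a generator of `L` has a representative in `N(L)`. -/
theorem exists_rep {y₀ : L} (hgen : Subgroup.zpowers y₀ = ⊤) (hy₀ : y₀ ≠ 1)
    {c : G ⧸ Subgroup.normalizer (Subgroup.zpowers x : Set G)}
    (hc : c ∈ MulAction.fixedBy _ (y₀ : G)) :
    ∃ r ∈ Subgroup.normalizer (L : Set G), (r : G ⧸ Subgroup.normalizer (Subgroup.zpowers x : Set G)) = c := by
  obtain ⟨a, rfl⟩ := QuotientGroup.mk_surjective c
  rw [fixedBy_iff] at hc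
  obtain ⟨u, hu, l, hl, hul⟩ := hS.hgen _ hc
  obtain ⟨i, rfl⟩ := hS.exists_pw hu
  by_cases h1 : (⟨l, hl⟩ : L) = 1
  · exfalso
    rw [show l = 1 from congrArg Subtype.val h1, mul_one] at hul
    have ho : orderOf (pw x i) = orderOf (y₀ : G) := by
      rw [← hul, show a⁻¹ * (y₀ : G) * a = MulAut.conj a⁻¹ (y₀ : G) by simp, MulEquiv.orderOf_eq]
    by_cases hi : i = 0
    · rw [hi, hS.pw_zero, orderOf_one] at ho
      exact hy₀ (Subtype.ext (orderOf_eq_one_iff.mp ho.symm))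
    · rw [hS.orderOf_pw hi] at ho
      exact hS.regular_L y₀ (dvd_of_eq ho)
  obtain ⟨j, hj⟩ := conj_coset hS hK h1 i
  have hinv : pw x (-j) = (pw x j)⁻¹ := by
    rw [eq_inv_iff_mul_eq_one, ← hS.pw_add, neg_add_cancel, hS.pw_zero]
  refine ⟨a * pw x j, ?_, QuotientGroup.eq.mpr ?_⟩
  · have hr : (a * pw x j)⁻¹ * (y₀ : G) * (a * pw x j) = l := by
      rw [show (a * pw x j)⁻¹ * (y₀ : G) * (a * pw x j) = (pw x j)⁻¹ * (a⁻¹ * (y₀ : G) * a) * pw x j by group,
        hul, ← hj, hinv]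
      group
    have heq : L.map (MulAut.conj (a * pw x j)⁻¹).toMonoidHom = L := by
      refine Subgroup.eq_of_le_of_card_ge ?_ (le_of_eq (Subgroup.card_map_of_injective (MulEquiv.injective _)).symm)
      rintro _ ⟨w, hw, rfl⟩
      obtain ⟨k, hk⟩ := Subgroup.mem_zpowers_iff.mp (hgen ▸ Subgroup.mem_top (⟨w, hw⟩ : L))
      have hk' : (y₀ : G) ^ k = w := congrArg Subtype.val hk
      rw [← hk', map_zpow]
      refine Subgroup.zpow_mem _ ?_ k
      show MulAut.conj (a * pw x j)⁻¹ (y₀ : G) ∈ L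
      rw [MulAut.conj_apply, inv_inv, hr]
      exact hl
    rw [Subgroup.mem_normalizer_iff]
    intro h
    constructor
    · intro hh
      rw [← heq] at hh
      obtain ⟨w, hw, hwe⟩ := hh
      rw [← hwe]
      simpa [mul_assoc] using hw
    · intro hh
      rw [← heq]
      exact ⟨_, hh, by simp [mul_assoc]⟩
  · rw [show (a * pw x j)⁻¹ * a = (pw x j)⁻¹ by group, Subgroup.inv_mem_iff]
    exact Subgroup.le_normalizer (hS.pw_mem j)

/-- `N(⟨x⟩)` meets `N(L)` in `L`. -/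
theorem mem_L_of_conj {y : L} (hy : y ≠ 1) {g : G} (hg : g ∈ Subgroup.normalizer (Subgroup.zpowers x : Set G))
    (hgy : g * (y : G) * g⁻¹ ∈ L) : g ∈ L := by
  obtain ⟨u, hu, l, hl, rfl⟩ := hS.hgen g hg
  obtain ⟨i, rfl⟩ := hS.exists_pw hu
  suffices hi : i = 0 by rw [hi, hS.pw_zero, one_mul]; exact hl
  set y' : L := ⟨l, hl⟩ * y * (⟨l, hl⟩ : L)⁻¹ with hy'
  have hy1 : y' ≠ 1 := fun h => hy (by
    rw [show y = (⟨l, hl⟩ : L)⁻¹ * y' * ⟨l, hl⟩ by rw [hy']; group, h]; group)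
  have hinv : pw x (-i) = (pw x i)⁻¹ := by
    rw [eq_inv_iff_mul_eq_one, ← hS.pw_add, neg_add_cancel, hS.pw_zero]
  have e1 : pw x i * l * (y : G) * (pw x i * l)⁻¹ = pw x (i + ((CyclicDefect.alpha hS y' : (ZMod p)ˣ) : ZMod p) * (-i)) * (y' : G) := by
    rw [hS.pw_add, ← CyclicDefect.alpha_spec hS y', hinv, hy']
    push_cast
    group
  rw [e1, L.mul_mem_cancel_right y'.2] at hgy
  set k := i + ((CyclicDefect.alpha hS y' : (ZMod p)ˣ) : ZMod p) * (-i) with hk
  by_contra hi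
  have hk0 : k ≠ 0 := by
    rw [hk, show i + ((CyclicDefect.alpha hS y' : (ZMod p)ˣ) : ZMod p) * (-i) = (1 - ((CyclicDefect.alpha hS y' : (ZMod p)ˣ) : ZMod p)) * i by ring]
    exact mul_ne_zero (sub_ne_zero.mpr (alpha_ne_one hS hK hy1).symm) hi
  refine hS.regular_L ⟨_, hgy⟩ ?_
  show p ∣ orderOf (pw x k)
  rw [hS.orderOf_pw hk0]

theorem card_normalizer_L {y₀ : L} (hgen : Subgroup.zpowers y₀ = ⊤) (hy₀ : y₀ ≠ 1) :
    Nat.card (Subgroup.normalizer (L : Set G)) = fixCard x (y₀ : G) * Nat.card L := by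
  classical
  set N := Subgroup.normalizer (Subgroup.zpowers x : Set G) with hN
  choose r hr hrc using fun c : MulAction.fixedBy (G ⧸ N) (y₀ : G) => exists_rep hS hK hgen hy₀ c.2
  let f : MulAction.fixedBy (G ⧸ N) (y₀ : G) × L → Subgroup.normalizer (L : Set G) := fun cl =>
    ⟨r cl.1 * (cl.2 : G), Subgroup.mul_mem _ (hr _) (Subgroup.le_normalizer cl.2.2)⟩
  have hf : Function.Bijective f := by
    refine ⟨fun a b h => ?_, fun g => ?_⟩
    · have h' : r a.1 * (a.2 : G) = r b.1 * (b.2 : G) := congrArg Subtype.val h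
      have h1 : a.1 = b.1 := by
        refine Subtype.ext ((hrc _).symm.trans (Eq.trans (QuotientGroup.eq.mpr ?_) (hrc _)))
        rw [show (r a.1)⁻¹ * r b.1 = (a.2 : G) * (b.2 : G)⁻¹ by
          rw [eq_mul_inv_iff_mul_eq, mul_assoc, ← h', inv_mul_cancel_left]]
        exact hS.hL (L.mul_mem a.2.2 (L.inv_mem b.2.2))
      rw [h1] at h'
      exact Prod.ext h1 (Subtype.ext (mul_left_cancel h'))
    · have hfix : ((g : G) : G ⧸ N) ∈ MulAction.fixedBy _ (y₀ : G) := by
        rw [fixedBy_iff]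
        have := (Subgroup.mem_normalizer_iff''.mp g.2 (y₀ : G)).mp y₀.2
        exact hS.hL this
      set c : MulAction.fixedBy (G ⧸ N) (y₀ : G) := ⟨_, hfix⟩
      have hm : (r c)⁻¹ * (g : G) ∈ N := QuotientGroup.eq.mp (hrc c)
      have hn : (r c)⁻¹ * (g : G) ∈ Subgroup.normalizer (L : Set G) :=
        Subgroup.mul_mem _ (Subgroup.inv_mem _ (hr c)) g.2
      have := mem_L_of_conj hS hK hy₀ hm ((Subgroup.mem_normalizer_iff.mp hn _).mp y₀.2)
      exact ⟨(c, ⟨_, this⟩), Subtype.ext (mul_inv_cancel_left _ _)⟩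
  rw [← Nat.card_eq_of_bijective f hf, Nat.card_prod]
  rfl

/-- If `y` fixes no more cosets than `L`, its centralizer normalizes `L`. -/
theorem centralizer_le_normalizer {y₀ : L} (hgen : Subgroup.zpowers y₀ = ⊤) (hy₀ : y₀ ≠ 1) {y : L} (hy : y ≠ 1)
    (hcard : fixCard x (y : G) ≤ fixCard x (y₀ : G)) :
    Subgroup.centralizer ({(y : G)} : Set G) ≤ Subgroup.normalizer (L : Set G) := by
  set N := Subgroup.normalizer (Subgroup.zpowers x : Set G) with hN
  have hsub : MulAction.fixedBy (G ⧸ N) (y₀ : G) ⊆ MulAction.fixedBy (G ⧸ N) (y : G) := by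
    intro c hc
    obtain ⟨k, hk⟩ := Subgroup.mem_zpowers_iff.mp (hgen ▸ Subgroup.mem_top y)
    rw [← hk, Subgroup.coe_zpow]
    exact MulAction.fixedBy_subset_fixedBy_zpow _ _ k hc
  have heq : MulAction.fixedBy (G ⧸ N) (y₀ : G) = MulAction.fixedBy (G ⧸ N) (y : G) :=
    Set.eq_of_subset_of_ncard_le hsub (by rw [← Nat.card_coe_set_eq, ← Nat.card_coe_set_eq]; exact hcard)
      (Set.toFinite _)
  intro g hg
  rw [Subgroup.mem_centralizer_singleton_iff] at hg
  have hmem : ((g : G) : G ⧸ N) ∈ MulAction.fixedBy _ (y₀ : G) := by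
    rw [heq, fixedBy_iff, show g⁻¹ * (y : G) * g = (y : G) by rw [mul_assoc, ← hg, inv_mul_cancel_left]]
    exact hS.hL y.2
  obtain ⟨r, hr, hrc⟩ := exists_rep hS hK hgen hy₀ hmem
  have hm : r⁻¹ * g ∈ N := QuotientGroup.eq.mp hrc
  have hc : r⁻¹ * g * (y : G) * (r⁻¹ * g)⁻¹ ∈ L := by
    rw [show r⁻¹ * g * (y : G) * (r⁻¹ * g)⁻¹ = r⁻¹ * (g * (y : G) * g⁻¹) * r by group,
      show g * (y : G) * g⁻¹ = (y : G) by rw [hg, mul_inv_cancel_right]]
    exact (Subgroup.mem_normalizer_iff''.mp hr _).mp y.2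
  have := Subgroup.mul_mem _ hr (Subgroup.le_normalizer (mem_L_of_conj hS hK hy hm hc))
  rwa [mul_inv_cancel_left] at this

end Cfsg.Agent.BrauerN
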