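/-
All irreducible characters when `C(x) = ⟨x⟩` (namespace `Cfsg.Agent.BrauerN`).

Main results: `Zset`, `sum_irr`, `meanSum`, `meanSum_one`, `sum_pw_of_mem`, `sum_pw_Z`.
-/
import Cfsg.Agent.Lib.BrauerN.Local

set_option autoImplicit false
set_option linter.unusedSectionVars false
set_option linter.style.haveILetI false

namespace Cfsg.Agent.BrauerN

open Cfsg Cfsg.Agent.Blocks Cfsg.Agent.CyclicDefect

variable {G : Type*} [Group G] [Finite G] {p : ℕ} [Fact p.Prime] {x : G} {L : Subgroup G}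

open scoped Classical in
/-- The characters of `p`-defect zero. -/
noncomputable def Zset (p : ℕ) (G : Type*) [Group G] [Fintype (IrrCharacter G)] : Finset (IrrCharacter G) :=
  Finset.univ.filter fun χ => p ∣ charDegree (χ : G → ℂ)

/-- The sum of `f` over `⟨x⟩`. -/
noncomputable def sumP (p : ℕ) [Fact p.Prime] (x : G) (f : G → ℂ) : ℂ :=
  f 1 + ∑ u : (ZMod p)ˣ, f (pw x (u : ZMod p))

theorem sumP_finset {ι : Type*} (s : Finset ι) (c : ι → ℂ) (f : ι → G → ℂ) :
    sumP p x (∑ a ∈ s, c a • f a) = ∑ a ∈ s, c a * sumP p x (f a) := by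
  simp only [sumP, Finset.sum_apply, Pi.smul_apply, smul_eq_mul, mul_add, Finset.mul_sum, Finset.sum_add_distrib]
  rw [Finset.sum_comm]

variable {M : Ideal AlgInt} {n f₀ : ℕ} {σ : ℤ} {A B X : Finset (IrrCharacter G)}
variable (hS : Setting p x L) (hK : K x L = ⊥) (hM : IsPModular p M) (hsh : Shape hS M n f₀ σ A B X)
include hS hK hM hsh

/-- Summation by types. -/
theorem sum_irr [Fintype (IrrCharacter G)] {R : Type*} [AddCommMonoid R] (F : IrrCharacter G → R) :
    ∑ χ, F χ = F (oneG G) + ∑ a ∈ A, F a + ∑ b ∈ B, F b + ∑ c ∈ X, F c + ∑ z ∈ Zset p G, F z := by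
  classical
  have hd : ∀ χ ∈ principalBlock M G, χ ∉ Zset p G := by
    intro χ hχ hz
    rcases irr_cases hS hK hM χ with h | h
    · exact h.2 (Finset.mem_filter.mp hz).2
    · exact h.1 hχ
  have huniv : (Finset.univ : Finset (IrrCharacter G)) = insert (oneG G) (((A ∪ B) ∪ X) ∪ Zset p G) := by
    refine (Finset.eq_univ_of_forall fun χ => ?_).symm
    simp only [Finset.mem_insert, Finset.mem_union]
    rcases irr_cases hS hK hM χ with h | h
    · rcases hsh.cover χ h.1 with h' | h' | h' | h' <;> tauto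
    · exact Or.inr (Or.inr (Finset.mem_filter.mpr ⟨Finset.mem_univ _, h.2.1⟩))
  have hone : oneG G ∉ ((A ∪ B) ∪ X) ∪ Zset p G := by
    simp only [Finset.mem_union]
    rintro (((h | h) | h) | h)
    · exact (hsh.memA _ h).2.2.2 rfl
    · exact (hsh.memB _ h).2.2.2 rfl
    · exact (hsh.memX _ h).2.2.2 rfl
    · exact hd _ (principal_isPBlock hM).2 h
  rw [huniv, Finset.sum_insert hone, Finset.sum_union ?_, Finset.sum_union ?_, Finset.sum_union hsh.disjAB]
  · abel
  · exact Finset.disjoint_union_left.mpr ⟨hsh.disjAX, hsh.disjBX⟩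
  · simp only [Finset.disjoint_union_left]
    refine ⟨⟨?_, ?_⟩, ?_⟩ <;> refine Finset.disjoint_left.mpr fun a ha => hd a ?_
    · exact (hsh.memA a ha).1
    · exact (hsh.memB a ha).1
    · exact (hsh.memX a ha).1

theorem sumP_Z [Fintype (IrrCharacter G)] {χ : IrrCharacter G} (h : χ ∈ Zset p G) :
    sumP p x (χ : G → ℂ) = (charDegree (χ : G → ℂ) : ℂ) := by
  classical
  rcases irr_cases hS hK hM χ with h' | h'
  · exact absurd (Finset.mem_filter.mp h).2 h'.2
  rw [sumP, ← charDegree_cast, Finset.sum_eq_zero, add_zero]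
  exact fun u _ => h'.2.2 _ (dvd_of_eq (hS.orderOf_pw u.ne_zero).symm)

theorem sumP_one : sumP p x (oneG G : G → ℂ) = (p : ℂ) := by
  have := hS.hp.one_le
  simp only [sumP, oneG_apply, Finset.sum_const, Finset.card_univ, ZMod.card_units, nsmul_eq_mul, mul_one,
    Nat.cast_sub this, Nat.cast_one]
  ring

omit hK in
theorem sumP_mem {χ : IrrCharacter G} (hχ : χ ∈ principalBlock M G) :
    sumP p x (χ : G → ℂ) = ((charDegree (χ : G → ℂ) : ℤ) - rowSum hS χ : ℤ) := by
  rw [sumP, sum_pw_ne_zero hS hM hχ, ← charDegree_cast]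
  push_cast
  ring

omit hK in
theorem sumP_A {χ : IrrCharacter G} (h : χ ∈ A) : sumP p x (χ : G → ℂ) = ((p * (n + 1) : ℕ) : ℂ) := by
  obtain ⟨h1, h2, h3, -⟩ := hsh.memA χ h
  rw [sumP_mem hS hM hsh h1, h2, h3]
  have := hS.hp.one_le
  rw [Nat.cast_sub this]
  push_cast
  ring

omit hK in
theorem sumP_B {χ : IrrCharacter G} (h : χ ∈ B) : sumP p x (χ : G → ℂ) = 0 := by
  obtain ⟨h1, h2, h3, -⟩ := hsh.memB χ h
  rw [sumP_mem hS hM hsh h1, h2, h3, sub_self, Int.cast_zero]

omit hK in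
theorem sumP_X {χ : IrrCharacter G} (h : χ ∈ X) :
    sumP p x (χ : G → ℂ) = (f₀ : ℂ) - (σ : ℂ) * ((K x L).index : ℂ) := by
  obtain ⟨h1, h2, h3, -⟩ := hsh.memX χ h
  rw [sumP_mem hS hM hsh h1, h2, h3]
  push_cast
  ring

end Cfsg.Agent.BrauerN
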