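/-
An exceptional character of degree `e` (namespace `Cfsg.Agent.BrauerN`).

Main result: `plus_case` (then `n = 1` and there are two exceptional characters).
-/
import Cfsg.Agent.Lib.BrauerN.Types

set_option autoImplicit false
set_option linter.unusedSectionVars false
set_option linter.style.haveILetI false

open scoped ComplexConjugate

namespace Cfsg.Agent.BrauerN

open Cfsg Cfsg.Agent.Blocks Cfsg.Agent.CyclicDefect

variable {G : Type*} [Group G] [Finite G] {p : ℕ} [Fact p.Prime] {x : G} {L : Subgroup G}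
  {M : Ideal AlgInt} {n : ℕ} {A B X : Finset (IrrCharacter G)}

set_option maxHeartbeats 1600000 in
open scoped Classical in
theorem plus_case (hS : Setting p x L) (hK : K x L = ⊥) (hM : IsPModular p M)
    (hsh : Shape hS M n (K x L).index 1 A B X) (ht : 2 ≤ X.card) (he : 2 ≤ (K x L).index) (hn : 1 ≤ n) :
    n = 1 ∧ X.card = 2 := by
  have hp := hS.hp
  have := Fintype.ofFinite G
  have := Fintype.ofFinite (IrrCharacter G)
  have := Fintype.ofFinite (K x L)
  haveI : Subsingleton (K x L) := by rw [hK]; infer_instance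
  set e := (K x L).index with hedef
  obtain ⟨χ, hχ⟩ : X.Nonempty := Finset.card_pos.mp (by omega)
  obtain ⟨hB, hd, hrs, -⟩ := hsh.memX χ hχ
  rw [one_mul] at hrs
  have hdec : ∀ i : ZMod p, dec (x := x) (χ : G → ℂ) (oneK x L : K x L → ℂ) i = (χ : G → ℂ) (pw x i) := by
    intro i
    rw [dec_eq, classInner, show Nat.card (K x L) = 1 by rw [hK, Subgroup.card_bot], Nat.cast_one, inv_one, one_mul,
      Fintype.sum_subsingleton _ 1]
    show _ * conj (1 : ℂ) = _
    rw [map_one, mul_one, OneMemClass.coe_one, OneMemClass.coe_one, mul_one]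
  -- the multiplicities on `⟨x⟩`
  have hN : ∑ j : ZMod p, multN hS χ (oneK x L) j = e ∧ multN hS χ (oneK x L) 0 = 0 := by
    have h0 : ((∑ j : ZMod p, multN hS χ (oneK x L) j : ℕ) : ℂ) = (e : ℂ) := by
      rw [← dec_zero_eq hS, hdec, hS.pw_zero, ← charDegree_cast, hd]
    have h1 := Nat.cast_inj.mp h0
    have h := sum_bInt_eq hS χ (oneK x L)
    rw [show (∑ u : (ZMod p)ˣ, bInt hS χ (oneK x L) (u : ZMod p)) = (e : ℤ) from hrs, h1] at h
    have h2 : (p : ℤ) * multN hS χ (oneK x L) 0 = 0 := by linarith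
    rcases mul_eq_zero.mp h2 with h3 | h3
    · exact absurd (by exact_mod_cast h3) hp.ne_zero
    · exact ⟨h1, by exact_mod_cast h3⟩
  have hsq : ∑ j : ZMod p, (multN hS χ (oneK x L) j : ℂ) * (multN hS χ (oneK x L) j : ℂ) = (e : ℂ) := by
    rw [← hN.1, Nat.cast_sum]
    refine Finset.sum_congr rfl fun j _ => ?_
    suffices multN hS χ (oneK x L) j ≤ 1 by interval_cases multN hS χ (oneK x L) j <;> simp
    by_cases hj : j = 0
    · rw [hj, hN.2]; exact zero_le_one
    · have h := hsh.rowX χ hχ (Units.mk0 j hj)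
      rw [Units.val_mk0, bInt_eq_sub, hN.2, Nat.cast_zero, sub_zero] at h
      by_contra h2
      have h3 : (2 : ℤ) * 2 ≤ (multN hS χ (oneK x L) j : ℤ) ^ 2 := by
        rw [pow_two]; exact mul_le_mul (by omega) (by omega) (by norm_num) (by omega)
      omega
  set Φ : G → ℂ := fun g => (χ : G → ℂ) g * conj ((χ : G → ℂ) g) with hΦ
  have hPsum : sumP p x Φ = (p : ℂ) * (e : ℂ) := by
    have h := sum_mult_sq (x := x) (p := p) (χ : G → ℂ) (oneK x L : K x L → ℂ)
    simp only [multN_spec hS, Complex.conj_natCast, hsq, hdec] at h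
    rw [h, ← mul_assoc, mul_inv_cancel₀ (Nat.cast_ne_zero.mpr hp.ne_zero), one_mul,
      ← Finset.add_sum_erase _ _ (Finset.mem_univ (0 : ZMod p)), hS.pw_zero, sumP]
    congr 1
    exact Finset.sum_bij (fun (u : (ZMod p)ˣ) _ => (u : ZMod p))
      (fun u _ => Finset.mem_erase.mpr ⟨u.ne_zero, Finset.mem_univ _⟩)
      (fun a _ b _ h => Units.ext h) (fun j hj => ⟨Units.mk0 j (Finset.ne_of_mem_erase hj), Finset.mem_univ _, rfl⟩)
      fun u _ => rfl
  have hΦc : IsCharacter G Φ :=
    Char.IsCharacter.mul (Char.IsIrrCharacter.isCharacter χ.2) (Char.IsCharacter.conj (Char.IsIrrCharacter.isCharacter χ.2))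
  obtain ⟨m, hm, hmi⟩ := Char.IsCharacter.decompose hΦc
  have hm1 : m (oneG G) = 1 := by
    apply Nat.cast_injective (R := ℂ)
    rw [← hmi, Nat.cast_one, ← Char.classInner_irr_self χ.2, classInner, classInner]
    simp [hΦ, oneG_apply]
  -- the value at `1`
  have hval : ((e : ℂ)) ^ 2 = ∑ φ : IrrCharacter G, (m φ : ℂ) * (charDegree (φ : G → ℂ) : ℂ) := by
    have h := congrFun hm 1
    simp only [Finset.sum_apply, Pi.smul_apply, smul_eq_mul, hΦ] at h
    simp only [charDegree_cast]
    rw [← h, ← charDegree_cast, hd, Complex.conj_natCast, pow_two]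
  have hmean : (p : ℂ) * (e : ℂ) = ∑ φ : IrrCharacter G, (m φ : ℂ) * sumP p x (φ : G → ℂ) := by
    rw [← hPsum, hm, sumP_finset]
  rw [sum_irr hS hK hM hsh, hm1] at hval hmean
  rw [sumP_one hS hK hM hsh, Finset.sum_congr rfl fun a ha => by rw [sumP_A hS hM hsh ha],
    Finset.sum_congr (s₁ := B) rfl fun b hb => by rw [sumP_B hS hM hsh hb, mul_zero],
    Finset.sum_congr (s₁ := X) rfl fun c hc => by
      rw [sumP_X hS hM hsh hc, Int.cast_one, one_mul, ← hedef, sub_self, mul_zero],
    Finset.sum_const_zero, Finset.sum_const_zero, ← Finset.sum_mul,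
    Finset.sum_congr (s₁ := Zset p G) rfl fun z hz => by rw [sumP_Z hS hK hM hsh hz]] at hmean
  rw [charDegree_oneG, Finset.sum_congr rfl fun a ha => by rw [(hsh.memA a ha).2.1],
    Finset.sum_congr (s₁ := B) rfl fun b hb => by rw [(hsh.memB b hb).2.1],
    Finset.sum_congr (s₁ := X) rfl fun c hc => by rw [(hsh.memX c hc).2.1],
    ← Finset.sum_mul, ← Finset.sum_mul, ← Finset.sum_mul] at hval
  set i := ∑ a ∈ A, m a with hi
  set j := ∑ b ∈ B, m b with hj
  set mX := ∑ c ∈ X, m c with hmX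
  set S := ∑ z ∈ Zset p G, m z * charDegree (z : G → ℂ) with hSdef
  have hvalN : e ^ 2 = 1 + i * (1 + n * p) + j * (p - 1) + mX * e + S := by
    apply Nat.cast_injective (R := ℂ)
    simp only [hi, hj, hmX, hSdef, Nat.cast_add, Nat.cast_mul, Nat.cast_sum, Nat.cast_pow, Nat.cast_one]
    simp only [Nat.cast_add, Nat.cast_mul, Nat.cast_one, one_mul] at hval
    linear_combination hval
  have hmeanN : p * e = p + i * (p * (n + 1)) + S := by
    apply Nat.cast_injective (R := ℂ)
    simp only [hi, hSdef, Nat.cast_add, Nat.cast_mul, Nat.cast_sum, Nat.cast_one]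
    simp only [Nat.cast_add, Nat.cast_mul, Nat.cast_one, one_mul] at hmean
    linear_combination hmean
  have hpe : p = e * X.card + 1 := by
    have := hsh.cardX
    rw [← hedef] at this
    have := hp.one_le
    omega
  refine tensor_arith (i := i) (j := j) (m := mX) hpe he ht hn ?_ ?_
  · have h1 : (e : ℤ) ^ 2 = ((1 + i * (1 + n * p) + j * (p - 1) + mX * e + S : ℕ) : ℤ) := by exact_mod_cast hvalN
    have h2 : ((p * e : ℕ) : ℤ) = ((p + i * (p * (n + 1)) + S : ℕ) : ℤ) := by rw [hmeanN]
    push_cast [Nat.cast_sub hp.one_le] at h1 h2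
    linear_combination h1 - h2
  · have h : p * (i * (n + 1) + 1) ≤ p * e := by
      rw [hmeanN, mul_add, mul_one, show p * (i * (n + 1)) = i * (p * (n + 1)) by ring]
      omega
    exact Nat.le_of_mul_le_mul_left h hp.pos

end Cfsg.Agent.BrauerN
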