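/-
An exceptional family of degree `(1 + n p) / t` (namespace `Cfsg.Agent.BrauerN`).

Main results: `Basic`, `minus_basic` (`n + 1 = t`, `e = a t + 2`, the permutation character on the conjugates of
`⟨x⟩` is `1 + Σ k ζ` over the characters `ζ` of degree `k p`).
-/
import Cfsg.Agent.Lib.BrauerN.Types

set_option autoImplicit false
set_option linter.unusedSectionVars false
set_option linter.style.haveILetI false

open scoped ComplexConjugate

namespace Cfsg.Agent.BrauerN

open Cfsg Cfsg.Agent.Blocks Cfsg.Agent.CyclicDefect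

variable {G : Type*} [Group G] [Finite G] {p : ℕ} [Fact p.Prime] {x : G} {L : Subgroup G}
  {M : Ideal AlgInt} {n f₀ : ℕ} {A B X : Finset (IrrCharacter G)}

/-- A function bounded by `k` in norm with mean `k` is constant. -/
theorem eq_of_sum_eq {ι : Type*} [Fintype ι] {φ : ι → ℂ} {k : ℝ} (hb : ∀ i, ‖φ i‖ ≤ k)
    (h : ∑ i, φ i = (Fintype.card ι : ℂ) * (k : ℂ)) (i : ι) : φ i = (k : ℂ) := by
  have key : ∀ j ∈ (Finset.univ : Finset ι), (φ j).re = k := by
    refine (Finset.sum_eq_sum_iff_of_le fun j _ => (Complex.re_le_norm _).trans (hb j)).1 ?_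
    rw [← Complex.re_sum, h, Finset.sum_const, Finset.card_univ, nsmul_eq_mul]
    simp
  have hre := key i (Finset.mem_univ i)
  refine Complex.ext (by rw [hre, Complex.ofReal_re]) ?_
  rw [Complex.ofReal_im]
  have h1 := Complex.sq_norm (φ i)
  have h0 : 0 ≤ k := le_trans (norm_nonneg _) (hb i)
  have h2 : ‖φ i‖ ^ 2 ≤ k ^ 2 := pow_le_pow_left₀ (norm_nonneg _) (hb i) 2
  rw [h1, Complex.normSq_apply, hre] at h2
  have h3 : (φ i).im * (φ i).im = 0 := le_antisymm (by linarith) (mul_self_nonneg _)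
  exact mul_self_eq_zero.mp h3

/-- The sum over `N(⟨x⟩) = ⟨x⟩ L`. -/
theorem sum_normalizer [Fintype L] (hS : Setting p x L) [Fintype (Subgroup.normalizer (Subgroup.zpowers x : Set G))]
    (f : G → ℂ) :
    ∑ g : Subgroup.normalizer (Subgroup.zpowers x : Set G), f (g : G) =
      ∑ y : L, ∑ i : ZMod p, f (pw x i * (y : G)) := by
  rw [← Fintype.sum_prod_type']
  refine (Fintype.sum_bijective (fun (yi : L × ZMod p) => (⟨pw x yi.2 * (yi.1 : G),
    Subgroup.mul_mem _ (Subgroup.le_normalizer (hS.pw_mem _)) (hS.hL yi.1.2)⟩ :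
      Subgroup.normalizer (Subgroup.zpowers x : Set G))) ?_ _ _ fun yi => rfl).symm
  refine (Nat.bijective_iff_surjective_and_card _).mpr ⟨fun g => ?_, ?_⟩
  · obtain ⟨u, hu, l, hl, h⟩ := hS.hgen _ g.2
    obtain ⟨i, rfl⟩ := hS.exists_pw hu
    exact ⟨(⟨l, hl⟩, i), Subtype.ext h.symm⟩
  · rw [hS.card_normalizer, Nat.card_prod, Nat.card_zmod, mul_comm]

/-- What follows from an exceptional family of degree `(1 + n p) / t`. -/
structure Basic (p : ℕ) [Fact p.Prime] (x : G) (L : Subgroup G) (n f₀ : ℕ)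
    (A B X : Finset (IrrCharacter G)) [Fintype (IrrCharacter G)] : Prop where
  n_succ : n + 1 = X.card
  deg₀ : f₀ + (K x L).index = p
  index_eq : (K x L).index = A.card * X.card + 2
  cardB : B.card = A.card * n + 1
  sum_sq : ∑ z ∈ Zset p G, (charDegree (z : G → ℂ) / p) ^ 2 = n
  apply_Z : ∀ z ∈ Zset p G, ∀ y : L, y ≠ 1 → (z : G → ℂ) (y : G) = ((charDegree (z : G → ℂ) / p : ℕ) : ℂ)
  perm : ∀ g : G, (fixCard x g : ℂ) = 1 + ∑ z ∈ Zset p G, ((charDegree (z : G → ℂ) / p : ℕ) : ℂ) * (z : G → ℂ) g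
  fix_L : ∀ y : L, y ≠ 1 → fixCard x (y : G) = n + 1

set_option maxHeartbeats 1600000 in
open scoped Classical in
theorem minus_basic [Fintype (IrrCharacter G)] (hS : Setting p x L) (hK : K x L = ⊥) (hM : IsPModular p M)
    (hsh : Shape hS M n f₀ (-1) A B X) (htf : X.card * f₀ = 1 + n * p) (he : 2 ≤ (K x L).index) (hn : 1 ≤ n)
    (hN : Nat.card (Sylow p G) = 1 + n * p) : Basic p x L n f₀ A B X := by
  have hp := hS.hp
  have := Fintype.ofFinite G
  have := Fintype.ofFinite L
  have := Fintype.ofFinite (Subgroup.normalizer (Subgroup.zpowers x : Set G))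
  set e := (K x L).index with hedef
  set t := X.card with htdef
  obtain ⟨χ, hχ⟩ : X.Nonempty := Finset.card_pos.mp (Nat.pos_of_ne_zero fun h => by
    have : t = 0 := h
    rw [this, zero_mul] at htf; omega)
  have ht0 : 0 < t := Finset.card_pos.mpr ⟨χ, hχ⟩
  have hpe : p = e * t + 1 := by
    have := hsh.cardX
    rw [← hedef, ← htdef] at this
    have := hp.one_le
    omega
  -- the exceptional degree
  obtain ⟨w, hw⟩ : ∃ w : ℕ, f₀ + e = p * w := by
    obtain ⟨m, hm, -⟩ := degree_eq hS hM (hsh.memX χ hχ).1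
    rw [(hsh.memX χ hχ).2.1, (hsh.memX χ hχ).2.2.1, ← hedef] at hm
    exact ⟨m, by apply Int.natCast_inj.mp; push_cast; linarith⟩
  have hnw : n + 1 = t * w := by
    refine Nat.eq_of_mul_eq_mul_left hp.pos ?_
    have h : t * (f₀ + e) = t * (p * w) := by rw [hw]
    rw [mul_add, htf] at h
    calc p * (n + 1) = 1 + n * p + t * e := by rw [hpe]; ring
      _ = t * (p * w) := h
      _ = p * (t * w) := by ring
  -- degrees
  have h11 : ¬ p ∣ orderOf (1 : G) := by rw [orderOf_one]; exact hp.not_dvd_one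
  have hrel : (-1 : ℤ) - A.card * (1 + n * p : ℕ) + B.card * (p - 1 : ℕ) - f₀ = 0 := by
    have h := hsh.rel 1 h11 χ hχ
    rw [Finset.sum_congr rfl fun a ha => by rw [← charDegree_cast a, (hsh.memA a ha).2.1],
      Finset.sum_congr (s₁ := B) rfl fun b hb => by rw [← charDegree_cast b, (hsh.memB b hb).2.1],
      Finset.sum_const, Finset.sum_const, nsmul_eq_mul, nsmul_eq_mul, ← charDegree_cast χ, (hsh.memX χ hχ).2.1] at h
    apply Int.cast_injective (α := ℂ)
    simp only [Int.cast_add, Int.cast_sub, Int.cast_mul, Int.cast_neg, Int.cast_one, Int.cast_natCast, Int.cast_zero]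
    rw [Int.cast_neg, Int.cast_one] at h
    linear_combination h
  have hAB := hsh.cardAB
  rw [← hedef] at hAB
  have hb : B.card = A.card * n + w := by
    refine Nat.eq_of_mul_eq_mul_left hp.pos ?_
    have h1 : ((f₀ + e : ℕ) : ℤ) = ((p * w : ℕ) : ℤ) := by rw [hw]
    have h2 : ((A.card + B.card + 1 : ℕ) : ℤ) = (e : ℤ) := by rw [hAB]
    apply Int.natCast_inj.mp
    push_cast [Nat.cast_sub hp.one_le] at hrel h1 h2 ⊢
    linear_combination hrel + h1 + h2
  have hev : e = A.card * (t * w) + w + 1 := by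
    rw [← hnw, ← hAB, hb]; ring
  have hG : Nat.card G = p * e * (1 + n * p) := by rw [card_G hS hN, card_L hS hK, ← hedef]
  -- the sum of squares
  have hkp : ∀ z ∈ Zset p G, charDegree (z : G → ℂ) = p * (charDegree (z : G → ℂ) / p) := fun z hz =>
    (Nat.mul_div_cancel' (Finset.mem_filter.mp hz).2).symm
  set k : IrrCharacter G → ℕ := fun z => charDegree (z : G → ℂ) / p with hk
  have hsq : ∑ z ∈ Zset p G, k z ^ 2 = n := by
    have h := Char.sum_sq_degrees (G := G)
    rw [sum_irr hS hK hM hsh, oneG_apply, Finset.sum_congr rfl fun a ha => by rw [← charDegree_cast a, (hsh.memA a ha).2.1],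
      Finset.sum_congr (s₁ := B) rfl fun b hb => by rw [← charDegree_cast b, (hsh.memB b hb).2.1],
      Finset.sum_congr (s₁ := X) rfl fun c hc => by rw [← charDegree_cast c, (hsh.memX c hc).2.1],
      Finset.sum_congr (s₁ := Zset p G) rfl (g := fun z => (p : ℂ) ^ 2 * ((k z ^ 2 : ℕ) : ℂ)) fun z hz => by
        rw [← charDegree_cast z, hkp z hz, Nat.cast_mul, Nat.cast_pow, mul_pow],
      ← Finset.mul_sum, Finset.sum_const, Finset.sum_const, Finset.sum_const, nsmul_eq_mul, nsmul_eq_mul,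
      nsmul_eq_mul, ← htdef, ← Nat.cast_sum, hG] at h
    have h' : ((1 + A.card * (1 + n * p) ^ 2 + B.card * (p - 1) ^ 2 + t * f₀ ^ 2 +
        p ^ 2 * ∑ z ∈ Zset p G, k z ^ 2 : ℕ) : ℤ) = ((p * e * (1 + n * p) : ℕ) : ℤ) := by
      apply congrArg
      apply Nat.cast_injective (R := ℂ)
      simp only [Nat.cast_add, Nat.cast_mul, Nat.cast_pow, Nat.cast_one, Nat.cast_sum] at h ⊢
      linear_combination h
    generalize ∑ z ∈ Zset p G, k z ^ 2 = T at h' ⊢
    have hp0 : ((p : ℤ)) ^ 2 ≠ 0 := pow_ne_zero _ (by exact_mod_cast hp.ne_zero)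
    apply Int.natCast_inj.mp
    refine mul_left_cancel₀ hp0 ?_
    have en : (n : ℤ) = (t : ℤ) * w - 1 := by
      have : ((n + 1 : ℕ) : ℤ) = ((t * w : ℕ) : ℤ) := by rw [hnw]
      push_cast at this; linarith
    have ef : (f₀ : ℤ) = (p : ℤ) * w - e := by
      have : ((f₀ + e : ℕ) : ℤ) = ((p * w : ℕ) : ℤ) := by rw [hw]
      push_cast at this; linarith
    have eB : (B.card : ℤ) = (A.card : ℤ) * n + w := by exact_mod_cast hb
    have eE : (e : ℤ) = (A.card : ℤ) * ((t : ℤ) * w) + w + 1 := by exact_mod_cast hev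
    have eP : (p : ℤ) = (e : ℤ) * t + 1 := by exact_mod_cast hpe
    push_cast [Nat.cast_sub hp.one_le] at h'
    rw [eB, ef, en, eP, eE] at h'
    rw [en, eP, eE]
    linear_combination h'
  -- the permutation character
  set N := Subgroup.normalizer (Subgroup.zpowers x : Set G) with hNdef
  set π : G → ℂ := fun g => (fixCard x g : ℂ) with hπ
  have hπc : IsCharacter G π := Char.isCharacter_fixedPoints (G ⧸ N)
  obtain ⟨m, hm, hmi⟩ := Char.IsCharacter.decompose hπc
  have hπ1 : π 1 = ((1 + n * p : ℕ) : ℂ) := by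
    show ((fixCard x 1 : ℕ) : ℂ) = _
    congr 1
    rw [fixCard, show MulAction.fixedBy (G ⧸ N) (1 : G) = Set.univ from Set.eq_univ_of_forall fun c => one_smul _ c,
      Nat.card_univ, ← hN]
    let P : Sylow p G := Sylow.ofCard (Subgroup.zpowers x) (by rw [hS.card_zpowers_eq, hS.factorization_card, pow_one])
    exact ((Sylow.card_eq_index_normalizer P).trans rfl).symm
  have hπP : sumP p x π = ((p * (n + 1) : ℕ) : ℂ) := by
    rw [sumP, hπ1, Finset.sum_congr rfl (g := fun _ => (1 : ℂ)) fun u _ => by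
      show ((fixCard x _ : ℕ) : ℂ) = 1
      rw [fixCard_pw hS hK u.ne_zero, Nat.cast_one], Finset.sum_const, Finset.card_univ, ZMod.card_units,
      nsmul_eq_mul, Nat.cast_sub hp.one_le]
    push_cast
    ring
  have hm1 : m (oneG G) = 1 := by
    apply Nat.cast_injective (R := ℂ)
    rw [← hmi, show ((oneG G : IrrCharacter G) : G → ℂ) = 1 from rfl]
    show classInner (fun g => (Nat.card (MulAction.fixedBy (G ⧸ N) g) : ℂ)) 1 = _
    rw [Char.classInner_fixedPoints_one, Nat.cast_inj]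
    exact Nat.card_eq_one_iff_unique.mpr ⟨MulAction.pretransitive_iff_subsingleton_quotient G (G ⧸ N) |>.mp inferInstance,
      ⟨Quotient.mk'' ((1 : G) : G ⧸ N)⟩⟩
  have hval : ((1 + n * p : ℕ) : ℂ) = ∑ φ : IrrCharacter G, (m φ : ℂ) * (charDegree (φ : G → ℂ) : ℂ) := by
    have h := congrFun hm 1
    simp only [Finset.sum_apply, Pi.smul_apply, smul_eq_mul] at h
    simp only [charDegree_cast]
    rw [← h, hπ1]
  have hmean : ((p * (n + 1) : ℕ) : ℂ) = ∑ φ : IrrCharacter G, (m φ : ℂ) * sumP p x (φ : G → ℂ) := by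
    rw [← hπP, hm, sumP_finset]
  rw [sum_irr hS hK hM hsh, hm1] at hval hmean
  rw [sumP_one hS hK hM hsh, Finset.sum_congr rfl fun a ha => by rw [sumP_A hS hM hsh ha],
    Finset.sum_congr (s₁ := B) rfl fun b hb => by rw [sumP_B hS hM hsh hb, mul_zero],
    Finset.sum_congr (s₁ := X) rfl fun c hc => by
      rw [sumP_X hS hM hsh hc, Int.cast_neg, Int.cast_one, neg_one_mul, sub_neg_eq_add, ← hedef, ← Nat.cast_add, hw],
    Finset.sum_const_zero, ← Finset.sum_mul, ← Finset.sum_mul,
    Finset.sum_congr (s₁ := Zset p G) rfl fun z hz => by rw [sumP_Z hS hK hM hsh hz]] at hmean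
  rw [charDegree_oneG, Finset.sum_congr rfl fun a ha => by rw [(hsh.memA a ha).2.1],
    Finset.sum_congr (s₁ := B) rfl fun b hb => by rw [(hsh.memB b hb).2.1],
    Finset.sum_congr (s₁ := X) rfl fun c hc => by rw [(hsh.memX c hc).2.1],
    ← Finset.sum_mul, ← Finset.sum_mul, ← Finset.sum_mul] at hval
  set i := ∑ a ∈ A, m a with hi
  set j := ∑ b ∈ B, m b with hj
  set mX := ∑ c ∈ X, m c with hmX
  set S := ∑ z ∈ Zset p G, m z * charDegree (z : G → ℂ) with hSdef
  have hvalN : 1 + n * p = 1 + i * (1 + n * p) + j * (p - 1) + mX * f₀ + S := by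
    apply Nat.cast_injective (R := ℂ)
    simp only [hi, hj, hmX, hSdef, Nat.cast_add, Nat.cast_mul, Nat.cast_sum, Nat.cast_one]
    simp only [Nat.cast_add, Nat.cast_mul, Nat.cast_one, one_mul] at hval
    linear_combination hval
  have hmeanN : p * (n + 1) = p + i * (p * (n + 1)) + mX * (p * w) + S := by
    apply Nat.cast_injective (R := ℂ)
    simp only [hi, hmX, hSdef, Nat.cast_add, Nat.cast_mul, Nat.cast_sum, Nat.cast_one]
    simp only [Nat.cast_add, Nat.cast_mul, Nat.cast_one, one_mul] at hmean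
    linear_combination hmean
  have hi0 : i = 0 := by
    by_contra h
    have := Nat.le_mul_of_pos_left (1 + n * p) (Nat.pos_of_ne_zero h)
    omega
  rw [hi0, zero_mul, add_zero] at hvalN hmeanN
  have hmj : mX = t * j := by
    have h1 : ((1 + n * p : ℕ) : ℤ) = ((1 + j * (p - 1) + mX * f₀ + S : ℕ) : ℤ) := by rw [← hvalN]
    have h2 : ((p * (n + 1) : ℕ) : ℤ) = ((p + mX * (p * w) + S : ℕ) : ℤ) := by rw [← hmeanN]
    have h3 : ((f₀ + e : ℕ) : ℤ) = ((p * w : ℕ) : ℤ) := by rw [hw]
    have eP : (p : ℤ) = (e : ℤ) * t + 1 := by exact_mod_cast hpe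
    push_cast [Nat.cast_sub hp.one_le] at h1 h2 h3
    apply Int.natCast_inj.mp
    refine mul_left_cancel₀ (show (e : ℤ) ≠ 0 by omega) ?_
    push_cast
    linear_combination h1 - h2 + (mX : ℤ) * h3 + (j : ℤ) * eP
  have hj0 : j = 0 := by
    by_contra h
    rw [hmj, show t * j * f₀ = j * (t * f₀) by ring, htf] at hvalN
    have := Nat.le_mul_of_pos_left (1 + n * p) (Nat.pos_of_ne_zero h)
    omega
  rw [hmj, hj0, mul_zero, zero_mul, zero_mul, add_zero, add_zero] at hvalN
  have hm0 : ∀ φ ∈ A ∪ B ∪ X, m φ = 0 := by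
    intro φ hφ
    have hX0 : mX = 0 := by rw [hmj, hj0, mul_zero]
    simp only [Finset.mem_union] at hφ
    rcases hφ with (h | h) | h
    · exact Finset.sum_eq_zero_iff.mp hi0 φ h
    · exact Finset.sum_eq_zero_iff.mp hj0 φ h
    · exact Finset.sum_eq_zero_iff.mp hX0 φ h
  have hmk : ∑ z ∈ Zset p G, m z * k z = n := by
    refine Nat.eq_of_mul_eq_mul_left hp.pos ?_
    have h1 : p * ∑ z ∈ Zset p G, m z * k z = S := by
      rw [hSdef, Finset.mul_sum]
      exact Finset.sum_congr rfl fun z hz => by rw [hkp z hz, hk]; ring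
    rw [h1]
    have : n * p = p * n := mul_comm _ _
    omega
  -- the fixed spaces
  have hfixed : ∀ z ∈ Zset p G, ∃ φ : L → ℂ, (∀ y, ‖φ y‖ ≤ (k z : ℝ)) ∧
      (∀ y, y ≠ 1 → φ y = (z : G → ℂ) (y : G)) ∧ ∑ y : L, φ y = (Fintype.card L : ℂ) * (m z : ℂ) := by
    intro z hz
    obtain ⟨φ, hφc, hφ⟩ := exists_fixed hS (Char.IsIrrCharacter.isCharacter z.2)
    have h1 : φ 1 = (k z : ℂ) := by
      refine mul_left_cancel₀ (Nat.cast_ne_zero.mpr hp.ne_zero : (p : ℂ) ≠ 0) ?_
      rw [fixed_one hS hφ]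
      show sumP p x (z : G → ℂ) = _
      rw [sumP_Z hS hK hM hsh hz, hkp z hz, Nat.cast_mul]
    refine ⟨φ, fun y => ?_, fun y hy => fixed_apply hS hK (Char.IsIrrCharacter.isCharacter z.2) hφ hy, ?_⟩
    · refine (Char.IsCharacter.norm_le hφc y).trans (le_of_eq ?_)
      rw [h1]; simp
    · have h := hmi z
      rw [show π = indFun N (1 : N → ℂ) from funext fun g => (Char.indFun_one_eq_fixedPoints N g).symm,
        Char.frobenius_reciprocity N 1 (irr_class z)] at h
      have hc : classInner (1 : N → ℂ) (fun g : N => (z : G → ℂ) (g : G)) = conj ((Nat.card L : ℂ)⁻¹ * ∑ y : L, φ y) := by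
        have hL0 : (Nat.card L : ℂ) ≠ 0 := Nat.cast_ne_zero.mpr Nat.card_pos.ne'
        rw [classInner, map_mul, map_inv₀, Complex.conj_natCast, map_sum]
        simp only [Pi.one_apply, one_mul]
        rw [← map_sum, sum_normalizer hS (fun g => (z : G → ℂ) g), map_sum,
          Finset.sum_congr rfl fun y _ => by rw [← hφ y, map_mul, Complex.conj_natCast],
          ← Finset.mul_sum, hNdef, hS.card_normalizer, Nat.cast_mul, mul_inv, mul_assoc, mul_left_comm (Nat.card L : ℂ)⁻¹,
          inv_mul_cancel_left₀ (Nat.cast_ne_zero.mpr hp.ne_zero)]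
      rw [hc] at h
      have h2 := congrArg conj h
      rw [Complex.conj_conj, Complex.conj_natCast, inv_mul_eq_iff_eq_mul₀ (Nat.cast_ne_zero.mpr Nat.card_pos.ne'),
        Nat.card_eq_fintype_card] at h2
      exact h2
  choose φ hφb hφy hφs using hfixed
  have hmle : ∀ z ∈ Zset p G, m z ≤ k z := by
    intro z hz
    have h := norm_sum_le Finset.univ (φ z hz)
    rw [hφs z hz, norm_mul, Complex.norm_natCast, Complex.norm_natCast] at h
    have h2 : ∑ y, ‖φ z hz y‖ ≤ (Fintype.card L : ℝ) * (k z : ℝ) := by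
      refine (Finset.sum_le_sum fun y _ => hφb z hz y).trans (le_of_eq ?_)
      rw [Finset.sum_const, Finset.card_univ, nsmul_eq_mul]
    exact_mod_cast le_of_mul_le_mul_left (h.trans h2) (by exact_mod_cast Fintype.card_pos)
  have hmeq : ∀ z ∈ Zset p G, m z = k z := by
    intro z hz
    have hle : ∀ a ∈ Zset p G, m a * k a ≤ k a ^ 2 := fun a ha => by
      rw [pow_two]; exact Nat.mul_le_mul_right _ (hmle a ha)
    have := (Finset.sum_eq_sum_iff_of_le hle).mp (by rw [hmk, hsq]) z hz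
    rw [pow_two] at this
    refine Nat.eq_of_mul_eq_mul_right (Nat.pos_of_ne_zero fun h0 => ?_) this
    have h1 := hkp z hz
    rw [show charDegree (z : G → ℂ) / p = 0 from h0, mul_zero] at h1
    exact (charDegree_pos z).ne' h1
  have hzy : ∀ z ∈ Zset p G, ∀ y : L, y ≠ 1 → (z : G → ℂ) (y : G) = (k z : ℂ) := by
    intro z hz y hy
    rw [← hφy z hz y hy, ← Complex.ofReal_natCast]
    refine eq_of_sum_eq (hφb z hz) ?_ y
    rw [hφs z hz, hmeq z hz, Complex.ofReal_natCast]
  have hperm : ∀ g : G, (fixCard x g : ℂ) = 1 + ∑ z ∈ Zset p G, (k z : ℂ) * (z : G → ℂ) g := by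
    intro g
    show π g = _
    rw [hm, Finset.sum_apply, sum_irr hS hK hM hsh]
    simp only [Pi.smul_apply, smul_eq_mul, hm1, oneG_apply, Nat.cast_one, mul_one]
    rw [Finset.sum_eq_zero (s := A) fun a ha => by rw [hm0 a (by simp [ha]), Nat.cast_zero, zero_mul],
      Finset.sum_eq_zero (s := B) fun a ha => by rw [hm0 a (by simp [ha]), Nat.cast_zero, zero_mul],
      Finset.sum_eq_zero (s := X) fun a ha => by rw [hm0 a (by simp [ha]), Nat.cast_zero, zero_mul],
      add_zero, add_zero, add_zero]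
    exact congrArg _ (Finset.sum_congr rfl fun z hz => by rw [hmeq z hz])
  have hfixL : ∀ y : L, y ≠ 1 → fixCard x (y : G) = n + 1 := by
    intro y hy
    apply Nat.cast_injective (R := ℂ)
    rw [hperm, Finset.sum_congr rfl fun z hz => by rw [hzy z hz y hy, ← Nat.cast_mul, ← pow_two], ← Nat.cast_sum, hsq]
    push_cast
    ring
  -- `w = 1`
  haveI := isCyclic_L hS hK
  obtain ⟨y₀, hy₀⟩ := IsCyclic.exists_generator (α := L)
  have hgen : Subgroup.zpowers y₀ = ⊤ := (Subgroup.eq_top_iff' _).mpr hy₀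
  have hy₀1 : y₀ ≠ 1 := by
    intro h
    rw [h, Subgroup.zpowers_one_eq_bot] at hgen
    have h2 := congrArg (fun H : Subgroup L => Nat.card H) hgen
    simp only [Subgroup.card_bot, Subgroup.card_top] at h2
    rw [card_L hS hK, ← hedef] at h2
    omega
  have hdvd : n + 1 ∣ p * (1 + n * p) := by
    have h := Subgroup.card_subgroup_dvd_card (Subgroup.normalizer (L : Set G))
    rw [card_normalizer_L hS hK hgen hy₀1, hfixL y₀ hy₀1, hG, card_L hS hK, ← hedef,
      show p * e * (1 + n * p) = p * (1 + n * p) * e by ring] at h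
    exact Nat.dvd_of_mul_dvd_mul_right (by omega) h
  have hw1 : w = 1 := by
    rw [hnw, ← htf, show p * (t * f₀) = t * (p * f₀) by ring] at hdvd
    have h1 : w ∣ p * f₀ := Nat.dvd_of_mul_dvd_mul_left ht0 hdvd
    have h2 : w ∣ p * e := by
      have h3 : w ∣ p * (f₀ + e) := by rw [hw]; exact dvd_mul_of_dvd_right (dvd_mul_left _ _) _
      rw [mul_add] at h3
      exact (Nat.dvd_add_right h1).mp h3
    have hco : Nat.Coprime w e := by
      rw [hev, show A.card * (t * w) + w + 1 = 1 + w * (A.card * t + 1) by ring,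
        Nat.coprime_add_mul_left_right]
      exact Nat.coprime_one_right w
    rcases (Nat.dvd_prime hp).mp (hco.dvd_of_dvd_mul_right h2) with h | h
    · exact h
    · exfalso
      rw [h] at hev
      have := Nat.le_mul_of_pos_right e ht0
      omega
  refine ⟨by rw [hnw, hw1, mul_one], by rw [hw, hw1, mul_one], by rw [← hedef, hev, hw1, mul_one], by rw [hb, hw1], hsq,
    hzy, hperm, hfixL⟩

end Cfsg.Agent.BrauerN
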