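/-
Values on `L` for an exceptional family of degree `(1 + n p) / t` (namespace `Cfsg.Agent.BrauerN`).

Main results: `apply_B`, `exists_fixed_AX`, `card_centralizer`, `minus_case` (`n = 1` and `t = 2`, or `e = 2`).
-/
import Cfsg.Agent.Lib.BrauerN.Minus
import Cfsg.Agent.Lib.Char.ClassMult
import Mathlib.Analysis.RCLike.Basic

set_option autoImplicit false
set_option linter.unusedSectionVars false
set_option linter.style.haveILetI false

open scoped ComplexConjugate

namespace Cfsg.Agent.BrauerN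

open Cfsg Cfsg.Agent.Blocks Cfsg.Agent.CyclicDefect

variable {G : Type*} [Group G] [Finite G] {p : ℕ} [Fact p.Prime] {x : G} {L : Subgroup G}
  {M : Ideal AlgInt} {n f₀ : ℕ} {A B X : Finset (IrrCharacter G)} [Fintype (IrrCharacter G)]
variable (hS : Setting p x L) (hK : K x L = ⊥) (hM : IsPModular p M) (hsh : Shape hS M n f₀ (-1) A B X)
  (hb : Basic p x L n f₀ A B X)
include hS hK hM hsh hb

/-- The character on the fixed space, with its degree. -/
theorem exists_fixed_val {χ : IrrCharacter G} {d : ℕ} (hd : sumP p x (χ : G → ℂ) = ((p * d : ℕ) : ℂ)) :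
    ∃ φ : L → ℂ, IsCharacter L φ ∧ φ 1 = (d : ℂ) ∧ ∀ y, y ≠ 1 → φ y = (χ : G → ℂ) (y : G) := by
  obtain ⟨φ, hφc, hφ⟩ := exists_fixed hS (Char.IsIrrCharacter.isCharacter χ.2)
  refine ⟨φ, hφc, ?_, fun y hy => fixed_apply hS hK (Char.IsIrrCharacter.isCharacter χ.2) hφ hy⟩
  refine mul_left_cancel₀ (Nat.cast_ne_zero.mpr hS.hp.ne_zero : (p : ℂ) ≠ 0) ?_
  rw [fixed_one hS hφ]
  exact hd.trans (Nat.cast_mul p d)

theorem exists_fixed_A {χ : IrrCharacter G} (hχ : χ ∈ A) :
    ∃ φ : L → ℂ, IsCharacter L φ ∧ φ 1 = (X.card : ℂ) ∧ ∀ y, y ≠ 1 → φ y = (χ : G → ℂ) (y : G) :=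
  exists_fixed_val hS hK hM hsh hb (by rw [sumP_A hS hM hsh hχ, hb.n_succ])

theorem exists_fixed_X {χ : IrrCharacter G} (hχ : χ ∈ X) :
    ∃ φ : L → ℂ, IsCharacter L φ ∧ φ 1 = 1 ∧ ∀ y, y ≠ 1 → φ y = (χ : G → ℂ) (y : G) := by
  have h := exists_fixed_val hS hK hM hsh hb (χ := χ) (d := 1) (by
    rw [sumP_X hS hM hsh hχ, Int.cast_neg, Int.cast_one, neg_one_mul, sub_neg_eq_add, ← Nat.cast_add, hb.deg₀, mul_one])
  simpa using h

theorem apply_B {χ : IrrCharacter G} (hχ : χ ∈ B) {y : L} (hy : y ≠ 1) : (χ : G → ℂ) (y : G) = 0 := by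
  obtain ⟨φ, hφc, h1, hval⟩ := exists_fixed_val hS hK hM hsh hb (χ := χ) (d := 0)
    (by rw [sumP_B hS hM hsh hχ, mul_zero, Nat.cast_zero])
  rw [← hval y hy]
  have := Char.IsCharacter.norm_le hφc y
  rw [h1, Nat.cast_zero, Complex.zero_re] at this
  exact norm_le_zero_iff.mp this

theorem apply_X_eq {g : G} (hg : ¬ p ∣ orderOf g) {χ ψ : IrrCharacter G} (hχ : χ ∈ X) (hψ : ψ ∈ X) :
    (χ : G → ℂ) g = (ψ : G → ℂ) g := by
  have h1 := hsh.rel g hg χ hχ
  have h2 := hsh.rel g hg ψ hψ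
  push_cast at h1 h2
  linear_combination h2 - h1

/-- The column relation on `L`. -/
theorem rel_L {y : L} (hy : y ≠ 1) {χ : IrrCharacter G} (hχ : χ ∈ X) :
    ∑ a ∈ A, (a : G → ℂ) (y : G) + (χ : G → ℂ) (y : G) = -1 := by
  have h := hsh.rel (y : G) (hS.regular_L y) χ hχ
  rw [Finset.sum_eq_zero (s := B) fun b hbB => apply_B hS hK hM hsh hb hbB hy] at h
  push_cast at h
  linear_combination -h

theorem norm_X {y : L} (hy : y ≠ 1) {χ : IrrCharacter G} (hχ : χ ∈ X) : ‖(χ : G → ℂ) (y : G)‖ = 1 := by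
  obtain ⟨φ, hφc, h1, hval⟩ := exists_fixed_X hS hK hM hsh hb hχ
  obtain ⟨l, hl⟩ := Char.exists_hom_of_degree_one hφc h1
  rw [← hval y hy, ← hl]
  have h : l y ^ orderOf y = 1 := by rw [← map_pow, pow_orderOf_eq_one, map_one]
  exact Complex.norm_eq_one_of_pow_eq_one h (orderOf_pos y).ne'

/-- The order of the centralizer through the column. -/
theorem card_centralizer {y : L} (hy : y ≠ 1) :
    (Nat.card (Subgroup.centralizer ({(y : G)} : Set G)) : ℝ) =
      2 * X.card + ∑ a ∈ A, ‖(a : G → ℂ) (y : G)‖ ^ 2 := by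
  classical
  have h := Char.column_orth (y : G) (y : G)
  rw [if_pos (IsConj.refl _)] at h
  simp only [Complex.mul_conj'] at h
  rw [sum_irr hS hK hM hsh, oneG_apply,
    Finset.sum_eq_zero (s := B) fun b hbB => by rw [apply_B hS hK hM hsh hb hbB hy, norm_zero]; simp,
    Finset.sum_congr (s₁ := X) rfl fun c hc => by rw [norm_X hS hK hM hsh hb hy hc],
    Finset.sum_congr (s₁ := Zset p G) rfl fun z hz => by
      rw [hb.apply_Z z hz y hy, Complex.norm_natCast, Complex.ofReal_natCast, ← Nat.cast_pow],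
    ← Nat.cast_sum, hb.sum_sq, Finset.sum_const, nsmul_eq_mul, norm_one, add_zero] at h
  have hn : (n : ℂ) + 1 = (X.card : ℂ) := by exact_mod_cast hb.n_succ
  apply Complex.ofReal_injective
  push_cast at h ⊢
  linear_combination -h + hn

set_option maxHeartbeats 1600000 in
theorem minus_case (hn : 1 ≤ n) (hN : Nat.card (Sylow p G) = 1 + n * p) :
    (n = 1 ∧ X.card = 2) ∨ (K x L).index = 2 := by
  classical
  rcases Nat.eq_zero_or_pos A.card with ha | ha
  · right; rw [hb.index_eq, ha]; ring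
  left
  have hp := hS.hp
  have := Fintype.ofFinite L
  have := Fintype.ofFinite G
  set e := (K x L).index with hedef
  set t := X.card with htdef
  set a := A.card with hadef
  have hev := hb.index_eq
  rw [← hedef, ← hadef, ← htdef] at hev
  have hnt := hb.n_succ
  rw [← htdef] at hnt
  suffices ht2 : t ≤ 2 by omega
  have hat : t ≤ a * t := Nat.le_mul_of_pos_left t ha
  have hcardL : Nat.card L = e := card_L hS hK
  have hpe : p = e * t + 1 := by
    have h := hsh.cardX
    rw [← hedef, ← htdef] at h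
    have := hp.one_le
    omega
  obtain ⟨χ₀, hχ₀⟩ : X.Nonempty := Finset.card_pos.mp (by omega)
  -- a generator and the involution
  haveI := isCyclic_L hS hK
  obtain ⟨y₀, hy₀⟩ := IsCyclic.exists_generator (α := L)
  have hgen : Subgroup.zpowers y₀ = ⊤ := (Subgroup.eq_top_iff' _).mpr hy₀
  have hord : orderOf y₀ = e := by rw [← Nat.card_zpowers, hgen, Subgroup.card_top, hcardL]
  have hy₀1 : y₀ ≠ 1 := fun h => by rw [h, orderOf_one] at hord; omega
  have heven : 2 ∣ e := by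
    by_contra hodd
    have hp2 : p % 2 = 1 := hp.mod_two_eq_one_iff_ne_two.mpr (by
      intro h
      have := Nat.le_mul_of_pos_right e (show 0 < t by omega)
      omega)
    have ht0 : t % 2 = 0 := by
      have h : (e * t) % 2 = 0 := by omega
      rw [Nat.mul_mod] at h
      rcases Nat.mod_two_eq_zero_or_one t with ht | ht
      · exact ht
      · rw [ht, show e % 2 = 1 by omega] at h; simp at h
    have h2 : (a * t) % 2 = 0 := by rw [Nat.mul_mod, ht0, mul_zero, Nat.zero_mod]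
    omega
  set z : L := y₀ ^ (e / 2) with hz
  have hzord : orderOf z = 2 := by
    rw [hz, orderOf_pow' _ (by omega : e / 2 ≠ 0), hord, Nat.gcd_eq_right (Nat.div_dvd_of_dvd heven),
      Nat.div_div_self heven (by omega)]
  have hz1 : z ≠ 1 := fun h => by rw [h, orderOf_one] at hzord; omega
  have hNL : Nat.card (Subgroup.normalizer (L : Set G)) = t * e := by
    rw [card_normalizer_L hS hK hgen hy₀1, hb.fix_L y₀ hy₀1, hnt, hcardL]
  have hCle : ∀ y : L, y ≠ 1 → Subgroup.centralizer ({(y : G)} : Set G) ≤ Subgroup.normalizer (L : Set G) :=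
    fun y hy => centralizer_le_normalizer hS hK hgen hy₀1 hy (by rw [hb.fix_L y hy, hb.fix_L y₀ hy₀1])
  have hCz : Nat.card (Subgroup.centralizer ({(z : G)} : Set G)) = t * e := by
    refine le_antisymm ((Nat.card_le_card_of_injective _ (Subgroup.inclusion_injective (hCle z hz1))).trans hNL.le) ?_
    rw [← hNL]
    refine Nat.card_le_card_of_injective _ (Subgroup.inclusion_injective (?_ : Subgroup.normalizer (L : Set G) ≤ _))
    intro g hg
    rw [Subgroup.mem_centralizer_singleton_iff]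
    have hmem := (Subgroup.mem_normalizer_iff.mp hg (z : G)).mp z.2
    set z' : L := ⟨_, hmem⟩ with hz'
    have hz'o : orderOf z' = 2 := by
      rw [← Subgroup.orderOf_coe]
      show orderOf (MulAut.conj g (z : G)) = 2
      rw [MulEquiv.orderOf_eq, Subgroup.orderOf_coe, hzord]
    have hzeq : z' = z := by
      have h := IsCyclic.card_orderOf_eq_totient (α := L) (d := 2) (by rw [← Nat.card_eq_fintype_card, hcardL]; exact heven)
      rw [Nat.totient_two, Finset.card_eq_one] at h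
      obtain ⟨w, hw⟩ := h
      have h1 : z' ∈ ({w} : Finset L) := hw ▸ Finset.mem_filter.mpr ⟨Finset.mem_univ _, hz'o⟩
      have h2 : z ∈ ({w} : Finset L) := hw ▸ Finset.mem_filter.mpr ⟨Finset.mem_univ _, hzord⟩
      rw [Finset.mem_singleton.mp h1, Finset.mem_singleton.mp h2]
    have : g * (z : G) * g⁻¹ = (z : G) := congrArg Subtype.val hzeq
    exact mul_inv_eq_iff_eq_mul.mp this
  -- fixed space characters
  have hφA : ∀ c ∈ A, ∃ φ : L → ℂ, IsCharacter L φ ∧ φ 1 = (t : ℂ) ∧ ∀ y, y ≠ 1 → φ y = (c : G → ℂ) (y : G) :=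
    fun c hc => exists_fixed_A hS hK hM hsh hb hc
  choose φ hφc hφ1 hφy using hφA
  obtain ⟨φ₀, hφ₀c, hφ₀1, hφ₀y⟩ := exists_fixed_X hS hK hM hsh hb hχ₀
  set ψ : Option A → L → ℂ := fun o => o.elim φ₀ fun c => φ c.1 c.2 with hψ
  have hψc : ∀ o, IsCharacter L (ψ o) := by rintro (_ | c); exacts [hφ₀c, hφc c.1 c.2]
  have hR : ∀ y : L, ∑ o, ψ o y = if y = 1 then ((e : ℂ) - 1) else -1 := by
    intro y
    rw [Fintype.sum_option]
    simp only [hψ, Option.elim]
    split_ifs with hy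
    · subst hy
      rw [hφ₀1, Finset.sum_congr rfl fun (c : A) _ => hφ1 c.1 c.2, Finset.sum_const, Finset.card_univ,
        Fintype.card_coe, nsmul_eq_mul, hev, ← hadef]
      push_cast; ring
    · rw [hφ₀y y hy, Finset.sum_congr rfl fun (c : A) _ => hφy c.1 c.2 y hy,
        Finset.sum_coe_sort A (fun c => (c : G → ℂ) (y : G)), add_comm, rel_L hS hK hM hsh hb hy hχ₀]
  -- the squares on `L`
  have hsum : ∑ o, ∑ y : L, ‖ψ o y‖ ^ 2 ≤ (e : ℝ) * ((e : ℝ) - 1) := by
    have hinn : ∀ o o', ∃ m : ℕ, classInner (ψ o) (ψ o') = m := fun o o' => Char.IsCharacter.classInner_nat (hψc o) (hψc o')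
    choose m hm using hinn
    have hL0 : (Nat.card L : ℂ) ≠ 0 := Nat.cast_ne_zero.mpr Nat.card_pos.ne'
    have hself : ∀ o, ((∑ y : L, ‖ψ o y‖ ^ 2 : ℝ) : ℂ) = (e : ℂ) * (m o o : ℂ) := by
      intro o
      rw [← hm o o, classInner, hcardL, ← mul_assoc, mul_inv_cancel₀ (hcardL ▸ hL0), one_mul, Complex.ofReal_sum]
      exact Finset.sum_congr rfl fun y _ => by rw [Complex.mul_conj', Complex.ofReal_pow]
    have htot : ((∑ o, ∑ o', m o o' : ℕ) : ℂ) = (e : ℂ) - 1 := by
      have h1 : classInner (∑ o, ψ o) (∑ o, ψ o) = (e : ℂ) - 1 := by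
        rw [classInner, Finset.sum_congr rfl (g := fun y : L => (if y = 1 then ((e : ℂ) - 1) ^ 2 - 1 else 0) + 1) fun y _ => ?_,
          Finset.sum_add_distrib, Finset.sum_ite_eq', if_pos (Finset.mem_univ _), Finset.sum_const, Finset.card_univ,
          nsmul_eq_mul, mul_one, ← Nat.card_eq_fintype_card, hcardL]
        · have he0 : (e : ℂ) ≠ 0 := hcardL ▸ hL0
          field_simp
          ring
        · rw [Finset.sum_apply, hR]
          split_ifs
          · rw [map_sub, map_one, Complex.conj_natCast]; ring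
          · rw [map_neg, map_one]; ring
      rw [← h1, Char.classInner_sum_left, Nat.cast_sum]
      refine Finset.sum_congr rfl fun o _ => ?_
      rw [Char.classInner_sum_right, Nat.cast_sum]
      exact Finset.sum_congr rfl fun o' _ => (hm o o').symm
    have hle : ∑ o, m o o ≤ ∑ o, ∑ o', m o o' := Finset.sum_le_sum fun o _ =>
      Finset.single_le_sum (f := fun o' => m o o') (fun _ _ => Nat.zero_le _) (Finset.mem_univ o)
    have h2 : (∑ o, ∑ y : L, ‖ψ o y‖ ^ 2 : ℝ) = (e : ℝ) * ((∑ o, m o o : ℕ) : ℝ) := by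
      apply Complex.ofReal_injective
      rw [Complex.ofReal_sum, Finset.sum_congr rfl fun o _ => hself o, ← Finset.mul_sum]
      push_cast; rfl
    have h3 : ((∑ o, ∑ o', m o o' : ℕ) : ℝ) = (e : ℝ) - 1 := by
      apply Complex.ofReal_injective
      rw [Complex.ofReal_natCast, htot]; push_cast; rfl
    rw [h2, ← h3]
    exact mul_le_mul_of_nonneg_left (by exact_mod_cast hle) (Nat.cast_nonneg _)
  -- centralizers of the other elements
  have hCge : ∀ y : L, e ≤ Nat.card (Subgroup.centralizer ({(y : G)} : Set G)) := by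
    intro y
    rw [← hcardL]
    refine Nat.card_le_card_of_injective _ (Subgroup.inclusion_injective (?_ : L ≤ _))
    intro g hg
    rw [Subgroup.mem_centralizer_singleton_iff]
    obtain ⟨k, hk⟩ := Subgroup.mem_zpowers_iff.mp (hgen ▸ Subgroup.mem_top (⟨g, hg⟩ : L))
    obtain ⟨l, hl⟩ := Subgroup.mem_zpowers_iff.mp (hgen ▸ Subgroup.mem_top y)
    have hc : Commute (⟨g, hg⟩ : L) y := by rw [← hk, ← hl]; exact (Commute.refl y₀).zpow_zpow k l
    exact congrArg Subtype.val hc.eq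
  have hCy : ∀ y : L, y ≠ 1 → y ≠ z → Nat.card (Subgroup.centralizer ({(y : G)} : Set G)) = e := by
    have hN2 : ∀ y : L, y ≠ 1 → (Nat.card (Subgroup.centralizer ({(y : G)} : Set G)) : ℝ) =
        2 * t + ((∑ o, ‖ψ o y‖ ^ 2) - 1) := by
      intro y hy
      rw [card_centralizer hS hK hM hsh hb hy, ← htdef, Fintype.sum_option]
      simp only [hψ, Option.elim]
      rw [hφ₀y y hy, norm_X hS hK hM hsh hb hy hχ₀, Finset.sum_congr rfl fun (c : A) _ => by rw [hφy c.1 c.2 y hy],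
        Finset.sum_coe_sort A (fun c => ‖(c : G → ℂ) (y : G)‖ ^ 2)]
      ring
    have hone : (∑ o, ‖ψ o (1 : L)‖ ^ 2) = 1 + (a : ℝ) * t ^ 2 := by
      rw [Fintype.sum_option]
      simp only [hψ, Option.elim]
      rw [hφ₀1, norm_one, one_pow, Finset.sum_congr rfl fun (c : A) _ => by rw [hφ1 c.1 c.2],
        Finset.sum_const, Finset.card_univ, Fintype.card_coe, nsmul_eq_mul, ← hadef, Complex.norm_natCast]
    set U := (Finset.univ.erase (1 : L)).erase z with hU
    have hzmem : z ∈ Finset.univ.erase (1 : L) := Finset.mem_erase.mpr ⟨hz1, Finset.mem_univ _⟩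
    have hUcard : U.card = e - 2 := by
      rw [hU, Finset.card_erase_of_mem hzmem, Finset.card_erase_of_mem (Finset.mem_univ _), Finset.card_univ,
        ← Nat.card_eq_fintype_card, hcardL]
      omega
    have htotal : ∑ y ∈ Finset.univ.erase (1 : L), (Nat.card (Subgroup.centralizer ({(y : G)} : Set G)) : ℝ) ≤
        (t : ℝ) * e * (a + 1) := by
      rw [Finset.sum_congr rfl fun y hy => hN2 y (Finset.ne_of_mem_erase hy), Finset.sum_add_distrib, Finset.sum_sub_distrib,
        Finset.sum_const, Finset.sum_const, Finset.card_erase_of_mem (Finset.mem_univ _), Finset.card_univ,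
        ← Nat.card_eq_fintype_card, hcardL, nsmul_eq_mul, nsmul_eq_mul, Nat.cast_sub (show 1 ≤ e by omega)]
      have h := hsum
      rw [Finset.sum_comm, ← Finset.add_sum_erase _ _ (Finset.mem_univ (1 : L)), hone] at h
      have he : (e : ℝ) = (a : ℝ) * t + 2 := by exact_mod_cast hev
      rw [he] at h ⊢
      push_cast
      linarith
    intro y hy hyz
    rw [← Finset.add_sum_erase _ _ hzmem, ← hU, hCz] at htotal
    have hU2 : ∑ y ∈ U, Nat.card (Subgroup.centralizer ({(y : G)} : Set G)) ≤ ∑ _y ∈ U, e := by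
      rw [Finset.sum_const, smul_eq_mul, hUcard]
      have he : ((e - 2 : ℕ) : ℝ) = (a : ℝ) * t := by
        rw [hev, Nat.add_sub_cancel]; push_cast; ring
      rw [← @Nat.cast_le ℝ, Nat.cast_sum, Nat.cast_mul, he]
      push_cast at htotal
      linarith
    have heq := (Finset.sum_eq_sum_iff_of_le (s := U) (f := fun _ => e)
      (g := fun y : L => Nat.card (Subgroup.centralizer ({(y : G)} : Set G))) fun y _ => hCge y).mp
      (le_antisymm (Finset.sum_le_sum fun y _ => hCge y) hU2)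
    exact (heq y (Finset.mem_erase.mpr ⟨hyz, Finset.mem_erase.mpr ⟨hy, Finset.mem_univ _⟩⟩)).symm
  -- the values at `z`
  have hreal : ∀ χ : IrrCharacter G, conj ((χ : G → ℂ) (z : G)) = (χ : G → ℂ) (z : G) := by
    intro χ
    rw [← Char.IsCharacter.apply_inv (Char.IsIrrCharacter.isCharacter χ.2)]
    have hzz : z⁻¹ = z := by rw [inv_eq_iff_mul_eq_one, ← pow_two, ← hzord, pow_orderOf_eq_one]
    rw [← Subgroup.coe_inv, hzz]
  have hsqz : ∀ χ : IrrCharacter G, (χ : G → ℂ) (z : G) * (χ : G → ℂ) (z : G) = ((‖(χ : G → ℂ) (z : G)‖ ^ 2 : ℝ) : ℂ) := by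
    intro χ
    conv_lhs => arg 2; rw [← hreal χ]
    rw [Complex.mul_conj', Complex.ofReal_pow]
  have hAz : ∀ c ∈ A, ‖(c : G → ℂ) (z : G)‖ ^ 2 = (t : ℝ) ^ 2 := by
    have hle : ∀ c ∈ A, ‖(c : G → ℂ) (z : G)‖ ^ 2 ≤ (t : ℝ) ^ 2 := by
      intro c hc
      refine pow_le_pow_left₀ (norm_nonneg _) ?_ 2
      rw [← hφy c hc z hz1]
      refine (Char.IsCharacter.norm_le (hφc c hc) z).trans (le_of_eq ?_)
      rw [hφ1 c hc]; simp
    refine (Finset.sum_eq_sum_iff_of_le hle).mp ?_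
    have h := card_centralizer hS hK hM hsh hb hz1
    rw [hCz, ← htdef] at h
    rw [Finset.sum_const, nsmul_eq_mul, ← hadef]
    have he : (e : ℝ) = (a : ℝ) * t + 2 := by exact_mod_cast hev
    push_cast at h
    rw [he] at h
    linarith
  -- counting the involutions inverting a generator
  have hy₀z : y₀ ≠ z := fun h => by rw [← h, hord] at hzord; omega
  have hf0 : (f₀ : ℂ) * t = ((1 + n * p : ℕ) : ℂ) := by
    have h1 : f₀ + e = p := hb.deg₀
    have h2 : f₀ * t = 1 + n * p := by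
      apply Int.natCast_inj.mp
      have h3 : ((f₀ + e : ℕ) : ℤ) = p := by rw [h1]
      have h4 : ((n + 1 : ℕ) : ℤ) = t := by rw [hnt]
      have h5 : (p : ℤ) = (e : ℤ) * t + 1 := by exact_mod_cast hpe
      push_cast at h3 h4 ⊢
      linear_combination (t : ℤ) * h3 - (p : ℤ) * h4 + h5
    exact_mod_cast h2
  have hcount := Char.class_mult_formula (z : G) (z : G) (y₀ : G)
  have hS0 : ∑ χ : IrrCharacter G, (χ : G → ℂ) (z : G) * (χ : G → ℂ) (z : G) * conj ((χ : G → ℂ) (y₀ : G)) / (χ : G → ℂ) 1 =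
      1 + (n : ℂ) / p - (t : ℂ) ^ 2 / ((1 + n * p : ℕ) : ℂ) := by
    have hN0 : ((1 + n * p : ℕ) : ℂ) ≠ 0 := Nat.cast_ne_zero.mpr (by omega)
    have hp0 : (p : ℂ) ≠ 0 := Nat.cast_ne_zero.mpr hp.ne_zero
    have ht0 : (t : ℂ) ≠ 0 := Nat.cast_ne_zero.mpr (by omega)
    rw [sum_irr hS hK hM hsh,
      Finset.sum_eq_zero (s := B) fun b hbB => by rw [apply_B hS hK hM hsh hb hbB hz1, zero_mul, zero_mul, zero_div],
      Finset.sum_congr (s₁ := A) rfl (g := fun c : IrrCharacter G => (t : ℂ) ^ 2 / ((1 + n * p : ℕ) : ℂ) * conj ((c : G → ℂ) (y₀ : G)))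
        fun c hc => by rw [hsqz, hAz c hc, ← charDegree_cast, (hsh.memA c hc).2.1]; push_cast; ring,
      Finset.sum_congr (s₁ := X) rfl (g := fun _ => (t : ℂ) / ((1 + n * p : ℕ) : ℂ) * conj ((χ₀ : G → ℂ) (y₀ : G)))
        fun c hc => by
          rw [hsqz, norm_X hS hK hM hsh hb hz1 hc, ← charDegree_cast, (hsh.memX c hc).2.1,
            apply_X_eq hS hK hM hsh hb (hS.regular_L y₀) hc hχ₀, one_pow, Complex.ofReal_one, one_mul, ← hf0]
          have hf : (f₀ : ℂ) ≠ 0 := fun h => hN0 (by rw [← hf0, h, zero_mul])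
          field_simp,
      Finset.sum_congr (s₁ := Zset p G) rfl (g := fun c : IrrCharacter G => (((charDegree (c : G → ℂ) / p) ^ 2 : ℕ) : ℂ) / (p : ℂ))
        fun c hc => by
          rw [hb.apply_Z c hc z hz1, hb.apply_Z c hc y₀ hy₀1, Complex.conj_natCast, ← charDegree_cast]
          have hd := Nat.mul_div_cancel' (Finset.mem_filter.mp hc).2
          have hpos := charDegree_pos c
          set k := charDegree (c : G → ℂ) / p with hkdef
          have hk0 : (k : ℂ) ≠ 0 := Nat.cast_ne_zero.mpr fun h => by rw [h, mul_zero] at hd; omega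
          rw [← hd, Nat.cast_mul, Nat.cast_pow]
          field_simp,
      ← Finset.mul_sum, Finset.sum_const, ← htdef, ← Finset.sum_div, ← Nat.cast_sum, hb.sum_sq, nsmul_eq_mul,
      oneG_apply, oneG_apply, oneG_apply, map_one]
    have h := congrArg conj (rel_L hS hK hM hsh hb hy₀1 hχ₀)
    rw [map_add, map_sum, map_neg, map_one] at h
    linear_combination ((t : ℂ) ^ 2 / ((1 + n * p : ℕ) : ℂ)) * h
  have hpairs : Nat.card {q : G × G // IsConj (z : G) q.1 ∧ IsConj (z : G) q.2 ∧ q.1 * q.2 = (y₀ : G)} ≤ e := by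
    rw [← hCy y₀ hy₀1 hy₀z]
    have hinv : ∀ w : G, IsConj (z : G) w → w * w = 1 := by
      intro w hw
      obtain ⟨c, rfl⟩ := isConj_iff.mp hw
      rw [show c * (z : G) * c⁻¹ * (c * (z : G) * c⁻¹) = c * ((z * z : L) : G) * c⁻¹ by push_cast; group,
        ← pow_two, ← hzord, pow_orderOf_eq_one]
      simp
    have hflip : ∀ q : {q : G × G // IsConj (z : G) q.1 ∧ IsConj (z : G) q.2 ∧ q.1 * q.2 = (y₀ : G)},
        q.1.1 * (y₀ : G) = (y₀ : G)⁻¹ * q.1.1 := by
      rintro ⟨⟨w, v⟩, hw, hv, hwv⟩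
      show w * (y₀ : G) = (y₀ : G)⁻¹ * w
      rw [← hwv, mul_inv_rev, inv_eq_of_mul_eq_one_right (hinv v hv), inv_eq_of_mul_eq_one_right (hinv w hw),
        ← mul_assoc, hinv w hw, one_mul, mul_assoc, hinv w hw, mul_one]
    rcases isEmpty_or_nonempty {q : G × G // IsConj (z : G) q.1 ∧ IsConj (z : G) q.2 ∧ q.1 * q.2 = (y₀ : G)} with h | ⟨⟨q₀⟩⟩
    · rw [Nat.card_of_isEmpty]; exact Nat.zero_le _
    have hmem : ∀ q : {q : G × G // IsConj (z : G) q.1 ∧ IsConj (z : G) q.2 ∧ q.1 * q.2 = (y₀ : G)},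
        q₀.1.1 * q.1.1 ∈ Subgroup.centralizer ({(y₀ : G)} : Set G) := by
      intro q
      rw [Subgroup.mem_centralizer_singleton_iff]
      have h1 := hflip q₀
      have h2 := hflip q
      have h3 : q₀.1.1 * (y₀ : G)⁻¹ = (y₀ : G) * q₀.1.1 := by
        rw [mul_inv_eq_iff_eq_mul, mul_assoc, h1, mul_inv_cancel_left]
      rw [mul_assoc, h2, ← mul_assoc, h3, mul_assoc]
    refine Nat.card_le_card_of_injective (fun q => (⟨q₀.1.1 * q.1.1, hmem q⟩ : Subgroup.centralizer ({(y₀ : G)} : Set G))) ?_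
    intro q r hqr
    have h1 : q.1.1 = r.1.1 := mul_left_cancel (congrArg Subtype.val hqr :)
    have h2 : q.1.2 = r.1.2 := mul_left_cancel ((q.2.2.2.trans r.2.2.2.symm).trans (by rw [h1]))
    exact Subtype.ext (Prod.ext h1 h2)
  have hG : Nat.card G = p * e * (1 + n * p) := by rw [card_G hS hN, hcardL]
  have hcl : (Nat.card {w : G // IsConj (z : G) w} : ℂ) * ((t : ℂ) * e) = (p : ℂ) * e * ((1 + n * p : ℕ) : ℂ) := by
    have h := Char.card_conjugates_mul_card_centralizer (z : G)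
    rw [hCz, hG] at h
    exact_mod_cast h
  have hval : (Nat.card {q : G × G // IsConj (z : G) q.1 ∧ IsConj (z : G) q.2 ∧ q.1 * q.2 = (y₀ : G)} : ℂ) =
      (e : ℂ) * ((t : ℂ) - 1) := by
    rw [hcount, hS0, hG, Nat.cast_mul, Nat.cast_mul]
    set C := (Nat.card {w : G // IsConj (z : G) w} : ℂ)
    have hN0 : ((1 + n * p : ℕ) : ℂ) ≠ 0 := Nat.cast_ne_zero.mpr (by omega)
    have hp0 : (p : ℂ) ≠ 0 := Nat.cast_ne_zero.mpr hp.ne_zero
    have he0 : (e : ℂ) ≠ 0 := Nat.cast_ne_zero.mpr (by omega)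
    have ht0 : (t : ℂ) ≠ 0 := Nat.cast_ne_zero.mpr (by omega)
    have hC : C = (p : ℂ) * ((1 + n * p : ℕ) : ℂ) / t := by
      rw [eq_div_iff ht0]
      apply mul_right_cancel₀ he0
      linear_combination hcl
    have hpC : (p : ℂ) = (e : ℂ) * t + 1 := by exact_mod_cast hpe
    have hnC : (n : ℂ) + 1 = (t : ℂ) := by exact_mod_cast hnt
    rw [hC]
    field_simp
    push_cast
    rw [hpC, ← hnC]
    ring
  have hle : (Nat.card {q : G × G // IsConj (z : G) q.1 ∧ IsConj (z : G) q.2 ∧ q.1 * q.2 = (y₀ : G)} : ℤ) ≤ e := by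
    exact_mod_cast hpairs
  have hval' : (Nat.card {q : G × G // IsConj (z : G) q.1 ∧ IsConj (z : G) q.2 ∧ q.1 * q.2 = (y₀ : G)} : ℤ) =
      (e : ℤ) * ((t : ℤ) - 1) := by
    apply Int.cast_injective (α := ℂ)
    push_cast
    exact hval
  rw [hval'] at hle
  have h : (t : ℤ) - 1 ≤ 1 := le_of_mul_le_mul_left (by rw [mul_one]; exact hle) (show (0 : ℤ) < e by omega)
  omega

end Cfsg.Agent.BrauerN
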