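/-
The two groups without the form (namespace `Cfsg.Agent.BrauerN`).

Main results: `psl_case` (`n = 1`, two exceptional characters: `PSL(2, p)`), `sl_case` (`e = 2`: `SL(2, 2^m)`).
-/
import Cfsg.Agent.Lib.BrauerN.MinusValues
import Cfsg.Agent.Lib.GLOrder.Basic
import Cfsg.Agent.S0731
import Cfsg.Agent.S1230

set_option autoImplicit false
set_option linter.unusedSectionVars false
set_option linter.style.haveILetI false

open scoped ComplexConjugate

namespace Cfsg.Agent.BrauerN

open Cfsg Cfsg.Agent.Blocks Cfsg.Agent.CyclicDefect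

variable {G : Type*} [Group G] [Finite G] {p : ℕ} [Fact p.Prime] {x : G} {L : Subgroup G}

/-- A nontrivial normal subgroup contains `x`. -/
theorem mem_of_normal (hS : Setting p x L) (hcore : pPrimeCore p G = ⊥) {N : Subgroup G} [hN : N.Normal]
    (hne : N ≠ ⊥) : x ∈ N := by
  have hp := hS.hp
  obtain ⟨y, hy⟩ := exists_prime_orderOf_dvd_card' (G := N) p (by
    by_contra hd
    have : N ≤ pPrimeCore p G := le_sSup ⟨hN, (hp.coprime_iff_not_dvd.mpr hd).symm⟩
    exact hne (le_bot_iff.mp (hcore ▸ this)))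
  let P : Sylow p G := Sylow.ofCard (Subgroup.zpowers x) (by rw [hS.card_zpowers_eq, hS.factorization_card, pow_one])
  obtain ⟨Q, hQ⟩ := (IsPGroup.of_card (n := 1) (show Nat.card (Subgroup.zpowers (y : G)) = p ^ 1 by
    rw [Nat.card_zpowers, pow_one, Subgroup.orderOf_coe]; exact hy)).exists_le_sylow
  obtain ⟨c, hc⟩ := MulAction.exists_smul_eq G P Q
  have hyQ : (y : G) ∈ (Q : Subgroup G) := hQ (Subgroup.mem_zpowers _)
  rw [← hc, Sylow.coe_subgroup_smul] at hyQ
  obtain ⟨z, hz, hzy⟩ := hyQ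
  obtain ⟨i, rfl⟩ := hS.exists_pw hz
  have hi : i ≠ 0 := fun h => hp.ne_one (by
    rw [← hy, ← Subgroup.orderOf_coe, ← hzy, h, hS.pw_zero]; simp)
  have hmem : pw x i ∈ N := by
    have h2 := hN.conj_mem' _ y.2 c
    have h3 : (y : G) = c * pw x i * c⁻¹ := hzy.symm
    rwa [h3, show c⁻¹ * (c * pw x i * c⁻¹) * c = pw x i by group] at h2
  have := Subgroup.pow_mem _ hmem (i⁻¹).val
  rwa [hS.pw_pow, ZMod.natCast_rightInverse, inv_mul_cancel₀ hi, hS.pw_one] at this

theorem fixed_pw_eq (hS : Setting p x L) (hK : K x L = ⊥) {i : ZMod p} (hi : i ≠ 0)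
    {c : G ⧸ Subgroup.normalizer (Subgroup.zpowers x : Set G)} (hc : pw x i • c = c) :
    c = ((1 : G) : G ⧸ Subgroup.normalizer (Subgroup.zpowers x : Set G)) := by
  have h := fixCard_pw hS hK hi
  haveI := (Nat.card_eq_one_iff_unique.mp h).1
  exact congrArg Subtype.val (Subsingleton.elim
    (⟨c, hc⟩ : MulAction.fixedBy (G ⧸ Subgroup.normalizer (Subgroup.zpowers x : Set G)) (pw x i))
    ⟨_, (fixedBy_iff _ _ _).mpr (by rw [inv_one, one_mul, mul_one]; exact Subgroup.le_normalizer (hS.pw_mem i))⟩)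

theorem psl_case (hS : Setting p x L) (hK : K x L = ⊥) (hcore : pPrimeCore p G = ⊥)
    (hN : Nat.card (Sylow p G) = 1 + 1 * p) (he : (K x L).index * 2 = p - 1) (he2 : 2 ≤ (K x L).index) :
    ∃ (F : Type) (_ : Field F) (_ : Fintype F), Fintype.card F = p ∧ 3 < p ∧
      Nonempty (G ≃* Matrix.ProjectiveSpecialLinearGroup (Fin 2) F) := by
  classical
  have hp := hS.hp
  have := Fintype.ofFinite G
  set N := Subgroup.normalizer (Subgroup.zpowers x : Set G) with hNdef
  set Ω := G ⧸ N
  letI : Fintype Ω := Fintype.ofFinite _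
  set o : Ω := ((1 : G) : G ⧸ N) with ho
  have hΩ : Nat.card Ω = p + 1 := by
    let P : Sylow p G := Sylow.ofCard (Subgroup.zpowers x) (by rw [hS.card_zpowers_eq, hS.factorization_card, pow_one])
    have h : Nat.card (Sylow p G) = N.index := Sylow.card_eq_index_normalizer P
    rw [show Nat.card Ω = N.index from rfl, ← h, hN, one_mul, add_comm]
  have hstab : ∀ g : G, g • o = o ↔ g ∈ N := fun g => by
    have h := fixedBy_iff N g 1
    rw [inv_one, one_mul, mul_one] at h
    exact h
  have hxN : ∀ i : ZMod p, pw x i ∈ N := fun i => Subgroup.le_normalizer (hS.pw_mem i)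
  have hne_o : ∀ g : G, g ∈ N → ∀ b : Ω, b ≠ o → g • b ≠ o := fun g hg b hb h => hb (by
    rw [← inv_smul_smul g b, h, (hstab g⁻¹).mpr (N.inv_mem hg)])
  -- `⟨x⟩` is regular off `o`
  have hreg : ∀ b c : Ω, b ≠ o → c ≠ o → ∃! i : ZMod p, pw x i • b = c := by
    intro b c hb hc
    let f : ZMod p → {d : Ω // d ≠ o} := fun i => ⟨pw x i • b, hne_o _ (hxN i) b hb⟩
    have hinj : Function.Injective f := by
      intro i j hij
      by_contra hne
      have h : pw x (i - j) • b = b := by
        have h' : pw x i • b = pw x j • b := congrArg Subtype.val hij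
        calc pw x (i - j) • b = pw x (-j) • pw x i • b := by rw [← mul_smul, ← hS.pw_add, neg_add_eq_sub]
          _ = b := by rw [h', ← mul_smul, ← hS.pw_add, neg_add_cancel, hS.pw_zero, one_smul]
      exact hb (fixed_pw_eq hS hK (sub_ne_zero.mpr hne) h)
    have hbij : Function.Bijective f := by
      refine (Nat.bijective_iff_injective_and_card _).mpr ⟨hinj, ?_⟩
      rw [Nat.card_zmod, Nat.card_eq_fintype_card, Fintype.card_subtype_compl, Fintype.card_subtype_eq,
        ← Nat.card_eq_fintype_card, hΩ]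
      rfl
    obtain ⟨i, hi⟩ := hbij.2 ⟨c, hc⟩
    exact ⟨i, congrArg Subtype.val hi, fun j hj => hbij.1 ((Subtype.ext hj : f j = ⟨c, hc⟩).trans hi.symm)⟩
  -- two fixed points besides `o`
  have hthree : ∀ g ∈ N, ∀ b c : Ω, b ≠ o → c ≠ o → b ≠ c → g • b = b → g • c = c → g = 1 := by
    intro g hg b c hb hc hbc hgb hgc
    obtain ⟨i, hi, -⟩ := hreg b c hb hc
    have hi0 : i ≠ 0 := fun h => hbc (by rw [← hi, h, hS.pw_zero, one_smul])
    obtain ⟨u, hu, l, hl, rfl⟩ := hS.hgen g hg
    obtain ⟨j, rfl⟩ := hS.exists_pw hu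
    set g := pw x j * l with hgdef
    have hl2 := CyclicDefect.alpha_spec hS ⟨l, hl⟩ i
    set a : ZMod p := ((CyclicDefect.alpha hS ⟨l, hl⟩ : (ZMod p)ˣ) : ZMod p) * i with ha
    have hga : g * pw x i * g⁻¹ = pw x a := by
      rw [hgdef, show pw x j * l * pw x i * (pw x j * l)⁻¹ = pw x j * (l * pw x i * l⁻¹) * (pw x j)⁻¹ by group,
        hl2, ← hS.pw_add, mul_inv_eq_iff_eq_mul, ← hS.pw_add, add_comm]
    have e : pw x a • b = c := by
      rw [← hga, mul_smul, mul_smul, show g⁻¹ • b = b from inv_smul_eq_iff.mpr hgb.symm, hi, hgc]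
    have hai : a = i := (hreg b c hb hc).unique e hi
    have hl1 : (⟨l, hl⟩ : L) = 1 := by
      by_contra h
      exact alpha_ne_one hS hK h (mul_right_cancel₀ hi0 (hai.trans (one_mul i).symm))
    have hgj : g = pw x j := by rw [hgdef, show l = 1 from congrArg Subtype.val hl1, mul_one]
    rw [hgj] at hgb ⊢
    by_cases hj : j = 0
    · rw [hj, hS.pw_zero]
    · exact absurd (fixed_pw_eq hS hK hj hgb) hb
  have hshift : ∀ c : Ω, ∃ r : G, r • c = o := fun c => MulAction.exists_smul_eq G c o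
  have hfix3 : ∀ g : G, ∀ a b c : Ω, a ≠ b → b ≠ c → a ≠ c → g • a = a → g • b = b → g • c = c → g = 1 := by
    intro g a b c hab hbc hac ha hb hc
    obtain ⟨r, hr⟩ := hshift a
    have hconj : ∀ d : Ω, g • d = d → (r * g * r⁻¹) • (r • d) = r • d := fun d hd => by
      rw [mul_smul, mul_smul, inv_smul_smul, hd]
    have hmem : r * g * r⁻¹ ∈ N := by
      rw [← hstab, ← hr]
      exact hconj a ha
    have hne : ∀ d, a ≠ d → r • d ≠ o := fun d hd h => hd (smul_left_cancel r (hr.trans h.symm))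
    have := hthree _ hmem (r • b) (r • c) (hne b hab) (hne c hac) (fun h => hbc (smul_left_cancel r h)) (hconj b hb) (hconj c hc)
    exact conj_eq_one_iff.mp this
  have htwo : MulAction.IsMultiplyPretransitive G Ω 2 := by
    rw [MulAction.is_two_pretransitive_iff]
    intro a b c d hab hcd
    obtain ⟨r, hr⟩ := hshift a
    obtain ⟨s, hs⟩ := hshift c
    have h1 : r • b ≠ o := fun h => hab (smul_left_cancel r (hr.trans h.symm))
    have h2 : s • d ≠ o := fun h => hcd (smul_left_cancel s (hs.trans h.symm))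
    obtain ⟨i, hi, -⟩ := hreg _ _ h1 h2
    refine ⟨s⁻¹ * pw x i * r, ?_, ?_⟩
    · rw [mul_smul, mul_smul, hr, (hstab _).mpr (hxN i), ← hs, inv_smul_smul]
    · rw [mul_smul, mul_smul, hi, inv_smul_smul]
  have hfaith : FaithfulSMul G Ω := by
    refine ⟨fun {g h} hgh => inv_mul_eq_one.mp ?_ |>.symm⟩
    have hfix : ∀ c : Ω, (h⁻¹ * g) • c = c := fun c => by rw [mul_smul, hgh, inv_smul_smul]
    have hcard : 3 ≤ Fintype.card Ω := by
      have h2 := hp.two_le
      rw [← Nat.card_eq_fintype_card, hΩ]; omega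
    obtain ⟨a, b, c, hab, hac, hbc⟩ := Fintype.two_lt_card_iff.mp (show 2 < Fintype.card Ω by omega)
    exact hfix3 _ a b c hab hbc hac (hfix a) (hfix b) (hfix c)
  haveI := hfaith
  have hLne : ∃ l : L, l ≠ 1 := by
    haveI : Nontrivial L := Finite.one_lt_card_iff_nontrivial.mp (by rw [card_L hS hK]; omega)
    exact exists_ne 1
  obtain ⟨l, hl⟩ := hLne
  have hex2 : ∃ g : G, g ≠ 1 ∧ ∃ a b : Ω, a ≠ b ∧ g • a = a ∧ g • b = b := by
    refine ⟨(l : G), fun h => hl (Subtype.ext h), o, ?_⟩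
    by_contra hno
    push Not at hno
    -- a fixed point free `p'`-element on `p` points
    obtain ⟨r, hr, hrd⟩ := Nat.exists_prime_and_dvd (show orderOf (l : G) ≠ 1 from fun h => hl (Subtype.ext (orderOf_eq_one_iff.mp h)))
    obtain ⟨k, hk⟩ := hrd
    set w := (l : G) ^ k with hw
    have hwo : orderOf w = r := by
      rw [hw, orderOf_pow' _ (fun h => by rw [h, mul_zero] at hk; exact (orderOf_pos (l : G)).ne' hk), hk,
        Nat.gcd_eq_right (dvd_mul_left _ _), Nat.mul_div_cancel _ (Nat.pos_of_ne_zero fun h => by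
          rw [h, mul_zero] at hk; exact (orderOf_pos (l : G)).ne' hk)]
    have hl' : ((l : G) : G) • o = o := (hstab _).mpr (hS.hL l.2)
    haveI := Fact.mk hr
    haveI := isCyclic_L hS hK
    have hmod := (IsPGroup.of_card (n := 1) (show Nat.card (Subgroup.zpowers w) = r ^ 1 by
      rw [Nat.card_zpowers, hwo, pow_one])).card_modEq_card_fixedPoints Ω
    have hone : Nat.card (MulAction.fixedPoints (Subgroup.zpowers w) Ω) = 1 := by
      refine Nat.card_eq_one_iff_unique.mpr ⟨⟨fun c d => ?_⟩, ⟨⟨o, fun g => ?_⟩⟩⟩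
      · apply Subtype.ext
        have hfix : ∀ c : MulAction.fixedPoints (Subgroup.zpowers w) Ω, c.1 = o := by
          intro c
          by_contra hc
          have hwc : w • c.1 = c.1 := c.2 ⟨w, Subgroup.mem_zpowers w⟩
          -- `l` permutes the fixed points of `w` other than `o`
          have hlc : w • ((l : G) • c.1) = (l : G) • c.1 := by
            rw [← mul_smul, show w * (l : G) = (l : G) * w from ((Commute.refl (l : G)).pow_left k).eq, mul_smul, hwc]
          by_cases hsame : (l : G) • c.1 = c.1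
          · exact hno c.1 (Ne.symm hc) hl' hsame
          · have h1 : w = 1 := hfix3 w o c.1 ((l : G) • c.1) (Ne.symm hc) (Ne.symm hsame)
              (fun h => hne_o _ (hS.hL l.2) _ hc h.symm) ((hstab _).mpr (N.pow_mem (hS.hL l.2) k)) hwc hlc
            rw [h1, orderOf_one] at hwo
            exact hr.ne_one hwo.symm
        rw [hfix c, hfix d]
      · obtain ⟨m, hm⟩ := Subgroup.mem_zpowers_iff.mp g.2
        show (g : G) • o = o
        rw [← hm]
        exact (hstab _).mpr (N.zpow_mem (N.pow_mem (hS.hL l.2) k) m)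
    rw [hΩ, hone] at hmod
    have hrp : r ∣ p := by
      have := (Nat.modEq_iff_dvd' (by omega)).mp hmod.symm
      rwa [Nat.add_sub_cancel] at this
    rw [(Nat.prime_dvd_prime_iff_eq hr hp).mp hrp] at hk
    exact hS.regular_L l (hk ▸ dvd_mul_right _ _)
  have hnoreg : ∀ H : Subgroup G, H.Normal → MulAction.IsPretransitive H Ω → ∃ a : Ω, MulAction.stabilizer H a ≠ ⊥ := by
    intro H hH htr
    refine ⟨o, fun h => ?_⟩
    have hne : H ≠ ⊥ := by
      rintro rfl
      haveI : Nontrivial Ω := Finite.one_lt_card_iff_nontrivial.mp (by rw [hΩ]; have := hp.two_le; omega)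
      obtain ⟨c, hc⟩ := exists_ne o
      obtain ⟨g, hg⟩ := MulAction.exists_smul_eq (⊥ : Subgroup G) o c
      rw [Subsingleton.elim g 1, one_smul] at hg
      exact hc hg.symm
    have hx := @mem_of_normal G _ _ p _ x L hS hcore H hH hne
    have hmem : (⟨x, hx⟩ : H) ∈ MulAction.stabilizer H o := (hstab x).mpr (hS.pw_one (L := L) ▸ hxN 1)
    rw [h, Subgroup.mem_bot] at hmem
    have : x = 1 := congrArg Subtype.val hmem
    exact hp.ne_one (by rw [← hS.hx, this, orderOf_one])
  have hZ : IsZassenhausGroup G Ω := ⟨hfaith, htwo, hfix3, hex2, hnoreg⟩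
  have hFle : Subgroup.zpowers x ≤ MulAction.stabilizer G o := fun u hu => (hstab u).mpr (Subgroup.le_normalizer hu)
  have hFn : ((Subgroup.zpowers x).subgroupOf (MulAction.stabilizer G o)).Normal := by
    refine ⟨fun u hu g => ?_⟩
    rw [Subgroup.mem_subgroupOf] at hu ⊢
    exact (Subgroup.mem_normalizer_iff.mp ((hstab _).mp g.2) _).mp hu
  have hFab : IsMulCommutative (Subgroup.zpowers x) := ⟨⟨fun a b => Subtype.ext (by
    obtain ⟨i, hi⟩ := hS.exists_pw a.2
    obtain ⟨j, hj⟩ := hS.exists_pw b.2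
    show (a : G) * b = b * a
    rw [hi, hj, ← hS.pw_add, ← hS.pw_add, add_comm])⟩⟩
  have hFreg : ∀ b c : Ω, b ≠ o → c ≠ o → ∃! u : Subgroup.zpowers x, (u : G) • b = c := by
    intro b c hb hc
    obtain ⟨i, hi, hu⟩ := hreg b c hb hc
    refine ⟨⟨pw x i, hS.pw_mem i⟩, hi, fun v hv => ?_⟩
    obtain ⟨j, hj⟩ := hS.exists_pw v.2
    have hv' : pw x j • b = c := hj ▸ hv
    exact Subtype.ext (hj.trans (by rw [hu j hv']))
  have hG : Nat.card G = p * (K x L).index * (p + 1) := by
    rw [card_G hS hN, card_L hS hK, one_mul, add_comm 1 p]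
  have hp5 : 3 < p := by omega
  rcases S0731.result hZ o (Subgroup.zpowers x) hFle hFn hFab hFreg with ⟨h3, -⟩ | ⟨F, iF, iFt, hF2, ⟨ψ⟩⟩
  · exfalso
    -- a triply transitive group is too big
    have hdvd : (p + 1) * p * (p - 1) ≤ Nat.card G := by
      obtain ⟨t₀⟩ : Nonempty (Fin 3 ↪ Ω) := Function.Embedding.nonempty_of_card_le (by
        rw [Fintype.card_fin, ← Nat.card_eq_fintype_card, hΩ]; omega)
      have hsurj : Function.Surjective (fun g : G => g • t₀) := fun u => MulAction.exists_smul_eq G t₀ u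
      have h := Nat.card_le_card_of_surjective _ hsurj
      rw [Nat.card_eq_fintype_card, Fintype.card_embedding_eq, Fintype.card_fin, ← Nat.card_eq_fintype_card, hΩ] at h
      simp only [Nat.descFactorial_succ, Nat.descFactorial_zero, Nat.sub_zero, mul_one] at h
      refine le_trans (le_of_eq ?_) h
      rw [Nat.add_sub_cancel, show p + 1 - 2 = p - 1 by omega]
      ring
    rw [hG, ← he, show (p + 1) * p * ((K x L).index * 2) = p * (K x L).index * (p + 1) * 2 by ring] at hdvd
    have := Nat.mul_pos (Nat.mul_pos hp.pos (show 0 < (K x L).index by omega)) (show 0 < p + 1 by omega)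
    omega
  · refine ⟨F, iF, iFt, ?_, hp5, ⟨ψ⟩⟩
    have hodd : Odd (Nat.card F) := by
      rw [Nat.card_eq_fintype_card]
      obtain ⟨q, hq, hcard⟩ := FiniteField.card F (ringChar F)
      rw [hcard]
      exact (hq.odd_of_ne_two hF2).pow
    have h := GLOrder.card_PSL_two_of_odd (F := F) hodd
    rw [← Nat.card_congr ψ.toEquiv, hG, Nat.card_eq_fintype_card] at h
    set q := Fintype.card F
    have hkey : 2 * (p * (K x L).index * (p + 1)) = p * (p ^ 2 - 1) := by
      have hsq : p ^ 2 - 1 = (p + 1) * (p - 1) := by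
        simpa using Nat.sq_sub_sq p 1
      rw [hsq, ← he]; ring
    have hq : q * (q ^ 2 - 1) = p * (p ^ 2 - 1) := by rw [← hkey]; omega
    have hmono : StrictMonoOn (fun k : ℕ => k * (k ^ 2 - 1)) {k | 1 ≤ k} := by
      intro a ha b _ hab
      simp only [Set.mem_ofPred_eq] at ha
      have hsqab : a ^ 2 < b ^ 2 := Nat.pow_lt_pow_left hab two_ne_zero
      have ha2 : 1 ≤ a ^ 2 := Nat.one_le_pow _ _ ha
      exact Nat.mul_lt_mul_of_lt_of_lt hab (by omega)
    exact hmono.injOn (show 1 ≤ q from Fintype.card_pos) (show 1 ≤ p from hp.one_le) hq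

open scoped Classical in
theorem sl_case {M : Ideal AlgInt} {n f₀ : ℕ} {A B X : Finset (IrrCharacter G)} [Fintype (IrrCharacter G)]
    (hS : Setting p x L) (hK : K x L = ⊥) (hM : IsPModular p M)
    (hsh : Shape hS M n f₀ (-1) A B X) (hb : Basic p x L n f₀ A B X) (hcore : pPrimeCore p G = ⊥)
    (hn : 1 ≤ n) (hN : Nat.card (Sylow p G) = 1 + n * p) (he : (K x L).index = 2) :
    ∃ (m : ℕ) (F : Type) (_ : Field F) (_ : Fintype F), Fintype.card F = 2 ^ m ∧ p = 2 ^ m + 1 ∧ 3 < p ∧
      Nonempty (G ≃* Matrix.SpecialLinearGroup (Fin 2) F) := by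
  have hp := hS.hp
  have := Fintype.ofFinite G
  have hA : A = ∅ := by
    have h := hb.index_eq
    rw [he] at h
    have := hb.n_succ
    rcases Nat.eq_zero_or_pos A.card with h0 | h0
    · exact Finset.card_eq_zero.mp h0
    · have := Nat.mul_pos h0 (show 0 < X.card by omega); omega
  obtain ⟨θ, hθ⟩ : ∃ θ, B = {θ} := Finset.card_eq_one.mp (by rw [hb.cardB, hA, Finset.card_empty, zero_mul])
  obtain ⟨χ₀, hχ₀⟩ : X.Nonempty := Finset.card_pos.mp (by rw [← hb.n_succ]; omega)
  have hp1 : 2 * X.card = p - 1 := by rw [← he]; exact hsh.cardX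
  have hf0 : f₀ + 2 = p := by rw [← he]; exact hb.deg₀
  haveI := isCyclic_L hS hK
  have hL2 : Nat.card L = 2 := by rw [card_L hS hK, he]
  obtain ⟨z, hz⟩ := IsCyclic.exists_generator (α := L)
  have hzord : orderOf z = 2 := by
    rw [← Nat.card_zpowers, (Subgroup.eq_top_iff' _).mpr hz, Subgroup.card_top, hL2]
  have hz1 : z ≠ 1 := fun h => by rw [h, orderOf_one] at hzord; omega
  have hL : ∀ y : L, y ≠ 1 → y = z := by
    intro y hy
    obtain ⟨k, rfl⟩ := Subgroup.mem_zpowers_iff.mp (hz y)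
    rw [← zpow_mod_orderOf, hzord] at hy ⊢
    rcases Int.emod_two_eq_zero_or_one k with h | h
    · push_cast at hy; rw [h, zpow_zero] at hy; exact absurd rfl hy
    · push_cast; rw [h, zpow_one]
  have hz' : (z : G) ≠ 1 := fun h => hz1 (Subtype.ext h)
  have hXz : (χ₀ : G → ℂ) (z : G) = -1 := by
    have h := rel_L hS hK hM hsh hb hz1 hχ₀
    rwa [hA, Finset.sum_empty, zero_add] at h
  -- regular elements are conjugate to `z` or `χ₀` vanishes
  have hvan : ∀ g : G, ¬ p ∣ orderOf g → g ≠ 1 → ¬ IsConj (z : G) g → (χ₀ : G → ℂ) g = 0 := by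
    intro g hg hg1 hgz
    have hfix0 : fixCard x g = 0 := by
      by_contra h
      obtain ⟨c⟩ : Nonempty (MulAction.fixedBy (G ⧸ Subgroup.normalizer (Subgroup.zpowers x : Set G)) g) :=
        (Nat.card_pos_iff.mp (Nat.pos_of_ne_zero h)).1
      obtain ⟨c, hc⟩ := c
      obtain ⟨a, rfl⟩ := QuotientGroup.mk_surjective c
      rw [fixedBy_iff] at hc
      obtain ⟨u, hu, l, hl, hul⟩ := hS.hgen _ hc
      obtain ⟨i, rfl⟩ := hS.exists_pw hu
      have hord : orderOf (pw x i * l) = orderOf g := by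
        rw [← hul, show a⁻¹ * g * a = MulAut.conj a⁻¹ g by simp, MulEquiv.orderOf_eq]
      by_cases h1 : (⟨l, hl⟩ : L) = 1
      · rw [show l = 1 from congrArg Subtype.val h1, mul_one] at hord hul
        by_cases hi : i = 0
        · rw [hi, hS.pw_zero, orderOf_one] at hord
          exact hg1 (orderOf_eq_one_iff.mp hord.symm)
        · rw [hS.orderOf_pw hi] at hord
          exact hg (dvd_of_eq hord)
      · obtain ⟨j, hj⟩ := conj_coset hS hK h1 i
        refine hgz (isConj_iff.mpr ⟨a * pw x j, ?_⟩)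
        have hinv : pw x (-j) = (pw x j)⁻¹ := by
          rw [eq_inv_iff_mul_eq_one, ← hS.pw_add, neg_add_cancel, hS.pw_zero]
        have h2 : (z : G) = l := congrArg Subtype.val (hL _ h1).symm
        calc a * pw x j * (z : G) * (a * pw x j)⁻¹ = a * (pw x j * l * pw x (-j)) * a⁻¹ := by rw [h2, hinv]; group
          _ = a * (a⁻¹ * g * a) * a⁻¹ := by rw [hul]; rw [hj]
          _ = g := by group
    have h := Char.column_orth g (z : G)
    rw [if_neg fun hh => hgz hh.symm, sum_irr hS hK hM hsh, hA, Finset.sum_empty, add_zero, oneG_apply, oneG_apply,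
      map_one, mul_one, Finset.sum_eq_zero (s := B) fun b hbB => by rw [apply_B hS hK hM hsh hb hbB hz1, map_zero, mul_zero],
      Finset.sum_congr (s₁ := X) rfl fun c hc => by
        rw [apply_X_eq hS hK hM hsh hb hg hc hχ₀, apply_X_eq hS hK hM hsh hb (hS.regular_L z) hc hχ₀, hXz],
      Finset.sum_congr (s₁ := Zset p G) rfl fun c hc => by rw [hb.apply_Z c hc z hz1, Complex.conj_natCast, mul_comm],
      Finset.sum_const, nsmul_eq_mul] at h
    have hperm := hb.perm g
    rw [hfix0, Nat.cast_zero] at hperm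
    have hX0 : (X.card : ℂ) ≠ 0 := Nat.cast_ne_zero.mpr (by omega)
    apply mul_left_cancel₀ hX0
    rw [map_neg, map_one] at h
    linear_combination -h - hperm
  -- a cyclic subgroup averages the exceptional character to an integer
  have hdiv : ∀ u : G, orderOf u ∣ 4 ∨ (orderOf u).Prime → ∀ s : ℤ,
      (∑ i ∈ Finset.range (orderOf u), (χ₀ : G → ℂ) (u ^ i)) = (s : ℂ) → (orderOf u : ℤ) ∣ s := by
    intro u _ s hs
    have := Fintype.ofFinite (Subgroup.zpowers u)
    obtain ⟨k, hk⟩ := BlockDefect.sum_subgroup_eq (Char.IsIrrCharacter.isCharacter χ₀.2) (Subgroup.zpowers u)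
    have hsum : ∑ g : Subgroup.zpowers u, (χ₀ : G → ℂ) (g : G) = (s : ℂ) := by
      rw [← hs, ← Fin.sum_univ_eq_sum_range]
      refine (Fintype.sum_equiv (finEquivZPowers (isOfFinOrder_of_finite u)) _ _ fun i => ?_).symm
      rw [finEquivZPowers_apply]
    rw [hsum, Nat.card_zpowers] at hk
    refine ⟨k, Int.cast_injective (α := ℂ) ?_⟩
    push_cast
    exact hk
  have hCz : Nat.card (Subgroup.centralizer ({(z : G)} : Set G)) = p - 1 := by
    have h := card_centralizer hS hK hM hsh hb hz1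
    rw [hA, Finset.sum_empty, add_zero] at h
    have h' : Nat.card (Subgroup.centralizer ({(z : G)} : Set G)) = 2 * X.card := by exact_mod_cast h
    rw [h', hp1]
  have hχ1 : (χ₀ : G → ℂ) 1 = (f₀ : ℂ) := by rw [← charDegree_cast, (hsh.memX χ₀ hχ₀).2.1]
  have hp2 : p % 2 = 1 := hp.mod_two_eq_one_iff_ne_two.mpr (by omega)
  have hinv : ∀ g : G, orderOf g = 2 → IsConj (z : G) g := by
    intro g hg
    by_contra hgz
    have h := hdiv g (Or.inl (by rw [hg]; norm_num)) (f₀ : ℤ) (by
      rw [hg, Finset.sum_range_succ, Finset.sum_range_one, pow_zero, pow_one, hχ1,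
        hvan g (by rw [hg]; intro h; have := Nat.le_of_dvd two_pos h; omega)
          (fun h => by rw [h, orderOf_one] at hg; omega) hgz, add_zero, Int.cast_natCast])
    rw [hg] at h
    push_cast at h
    omega
  have hexp : ∀ c ∈ Subgroup.centralizer ({(z : G)} : Set G), c ^ 2 = 1 := by
    intro c hc
    by_contra hne
    have hoc : orderOf c ∣ p - 1 := by
      rw [← hCz]
      have h := orderOf_dvd_natCard (⟨c, hc⟩ : Subgroup.centralizer ({(z : G)} : Set G))
      rwa [← Subgroup.orderOf_coe] at h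
    have hnd : ¬ orderOf c ∣ 2 := fun h => hne (orderOf_dvd_iff_pow_eq_one.mp h)
    obtain ⟨m, hm, hmd⟩ : ∃ m, (m = 4 ∨ (m.Prime ∧ m ≠ 2)) ∧ m ∣ orderOf c := by
      by_contra hno
      push Not at hno
      by_cases h1 : orderOf c = 1
      · exact hnd (by rw [h1]; exact one_dvd 2)
      have huniq : ∀ {q : ℕ}, q.Prime → q ∣ orderOf c → q = 2 := fun {q} hq hqd => by
        by_contra h2
        exact hno q (Or.inr ⟨hq, h2⟩) hqd
      have h2 := Nat.eq_prime_pow_of_unique_prime_dvd (orderOf_pos c).ne' huniq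
      rcases le_or_gt (orderOf c).primeFactorsList.length 1 with h | h
      · exact hnd (by rw [h2]; exact (pow_one 2 ▸ Nat.pow_dvd_pow 2 h :))
      · exact hno 4 (Or.inl rfl) (by rw [h2]; exact Nat.pow_dvd_pow 2 h)
    obtain ⟨k, hk⟩ := hmd
    have hk0 : 0 < k := Nat.pos_of_ne_zero fun h => by rw [h, mul_zero] at hk; exact (orderOf_pos c).ne' hk
    set u := c ^ k with hu
    have huo : orderOf u = m := by
      rw [hu, orderOf_pow' _ hk0.ne', hk, Nat.gcd_eq_right (dvd_mul_left _ _), Nat.mul_div_cancel _ hk0]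
    have hmp : m ∣ p - 1 := (Dvd.intro k hk.symm).trans hoc
    have hregu : ∀ i, ¬ p ∣ orderOf (u ^ i) := by
      intro i h
      have h1 := (h.trans (orderOf_pow_dvd i)).trans (huo ▸ hmp)
      have := Nat.le_of_dvd (by omega) h1
      omega
    have hnotz : ∀ i, orderOf (u ^ i) ≠ 2 → ¬ IsConj (z : G) (u ^ i) := fun i hi h => hi (by
      obtain ⟨a, ha⟩ := isConj_iff.mp h
      rw [← ha, show a * (z : G) * a⁻¹ = MulAut.conj a (z : G) from rfl, MulEquiv.orderOf_eq, Subgroup.orderOf_coe, hzord])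
    have hpow : ∀ i, 0 < i → i < m → u ^ i ≠ 1 := fun i h0 hi h => by
      have := Nat.le_of_dvd h0 (orderOf_dvd_of_pow_eq_one h); omega
    rcases hm with rfl | ⟨hmp', hm2⟩
    · have h2 : orderOf (u ^ 2) = 2 := by rw [orderOf_pow' _ two_ne_zero, huo]; decide
      have hval : (χ₀ : G → ℂ) (u ^ 2) = -1 := by
        obtain ⟨a, ha⟩ := isConj_iff.mp (hinv _ h2)
        rw [← ha, irr_class χ₀ (z : G) a, hXz]
      have hz0 : ∀ i, i = 1 ∨ i = 3 → (χ₀ : G → ℂ) (u ^ i) = 0 := by
        intro i hi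
        refine hvan _ (hregu i) (hpow i (by omega) (by omega)) (hnotz i ?_)
        rw [orderOf_pow' _ (by omega : i ≠ 0), huo]
        rcases hi with rfl | rfl <;> decide
      have h := hdiv u (Or.inl (dvd_of_eq huo)) ((f₀ : ℤ) - 1) (by
        rw [huo]
        simp only [Finset.sum_range_succ, Finset.sum_range_zero, zero_add, pow_zero]
        rw [hχ1, hz0 1 (Or.inl rfl), hval, hz0 3 (Or.inr rfl)]
        push_cast; ring)
      rw [huo] at h
      push_cast at h
      omega
    · have h := hdiv u (Or.inr (huo ▸ hmp')) (f₀ : ℤ) (by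
        rw [huo, show m = (m - 1) + 1 by have := hmp'.pos; omega, Finset.sum_range_succ', pow_zero, hχ1,
          Finset.sum_eq_zero fun i hi => ?_, zero_add, Int.cast_natCast]
        have hi' := Finset.mem_range.mp hi
        refine hvan _ (hregu _) (hpow _ (Nat.succ_pos i) (by omega)) (hnotz _ ?_)
        rw [(Nat.Coprime.orderOf_pow ?_), huo]
        · exact hm2
        · rw [huo]
          exact (hmp'.coprime_iff_not_dvd.mpr fun h => by have := Nat.le_of_dvd (Nat.succ_pos i) h; omega))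
      rw [huo] at h
      have h1 : m ∣ f₀ := Int.natCast_dvd_natCast.mp h
      have h2 : m ∣ 1 := by
        have h3 : m ∣ f₀ + 1 := by rw [show f₀ + 1 = p - 1 by omega]; exact hmp
        exact (Nat.dvd_add_right h1).mp h3
      exact hmp'.ne_one (Nat.dvd_one.mp h2)
  -- `C(z)` is a Sylow 2-subgroup
  set C := Subgroup.centralizer ({(z : G)} : Set G) with hC
  have hCp : IsPGroup 2 C := fun c => ⟨1, Subtype.ext (by rw [pow_one, SubmonoidClass.coe_pow]; exact hexp c c.2)⟩
  obtain ⟨m, hm⟩ := IsPGroup.iff_card.mp hCp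
  have hpm : p - 1 = 2 ^ m := by rw [← hCz, hm]
  have hG : Nat.card G = 2 ^ m * (p * (2 * X.card - 1)) := by
    have hn1 := hb.n_succ
    rw [card_G hS hN, hL2, ← hpm, ← hp1]
    obtain ⟨t', ht'⟩ : ∃ t', X.card = t' + 1 := ⟨n, hn1.symm⟩
    have hn' : n = t' := by omega
    rw [hn', show p = 2 * (t' + 1) + 1 by omega, ht', show 2 * (t' + 1) - 1 = 2 * t' + 1 by omega]
    ring
  have hfac : (Nat.card G).factorization 2 = m := by
    have hodd : ¬ 2 ∣ p * (2 * X.card - 1) := by
      intro h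
      rcases Nat.prime_two.dvd_mul.mp h with h | h <;> omega
    rw [hG, Nat.factorization_mul (by positivity) (fun h => hodd (by rw [h]; exact dvd_zero 2)), Finsupp.add_apply,
      Nat.prime_two.factorization_pow, Finsupp.single_eq_same, Nat.factorization_eq_zero_of_not_dvd hodd, add_zero]
  let T : Sylow 2 G := Sylow.ofCard C (by rw [hfac, hm])
  have hnc : ¬ IsCyclic (T : Subgroup G) := by
    intro hcyc
    obtain ⟨g, hg⟩ := IsCyclic.exists_generator (α := (T : Subgroup G))
    have h1 : orderOf g = p - 1 := by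
      rw [← hCz, ← Nat.card_zpowers, (Subgroup.eq_top_iff' _).mpr hg, Subgroup.card_top]; rfl
    have h2 : orderOf g ∣ 2 := orderOf_dvd_of_pow_eq_one (Subtype.ext (by
      rw [SubmonoidClass.coe_pow]; exact hexp _ g.2))
    have := Nat.le_of_dvd two_pos h2
    have := hb.n_succ
    omega
  have hnn : ¬ (T : Subgroup G).Normal := by
    intro hnor
    haveI : C.Normal := hnor
    have hxC : x ∈ C := mem_of_normal hS hcore (fun h => by
      have h1 := congrArg (fun H : Subgroup G => Nat.card H) h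
      simp only [Subgroup.card_bot] at h1
      rw [hCz] at h1
      have := hb.n_succ
      omega)
    have h := hexp x hxC
    have := Nat.le_of_dvd two_pos (hS.hx ▸ orderOf_dvd_of_pow_eq_one h)
    have := hb.n_succ
    omega
  obtain ⟨F, iF, iFt, hF, ⟨ψ⟩⟩ := S1230.result T hnc hnn (fun s hs => by
    obtain ⟨a, ha⟩ := isConj_iff.mp (hinv s hs)
    have hall : ∀ c ∈ Subgroup.centralizer ({s} : Set G), c ^ 2 = 1 := by
      intro c hc
      have hmem : a⁻¹ * c * a ∈ C := by
        rw [hC, Subgroup.mem_centralizer_singleton_iff]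
        rw [Subgroup.mem_centralizer_singleton_iff, ← ha] at hc
        calc a⁻¹ * c * a * (z : G) = a⁻¹ * (c * (a * (z : G) * a⁻¹)) * a := by group
          _ = a⁻¹ * (a * (z : G) * a⁻¹ * c) * a := by rw [hc]
          _ = (z : G) * (a⁻¹ * c * a) := by group
      have h := hexp _ hmem
      rw [show a⁻¹ * c * a = a⁻¹ * c * a⁻¹⁻¹ by rw [inv_inv], conj_pow] at h
      exact conj_eq_one_iff.mp h
    exact ⟨⟨⟨fun u v => Subtype.ext (by
      show (u : G) * v = v * u
      have hu := hall _ u.2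
      have hv := hall _ v.2
      have huv := hall _ (Subgroup.mul_mem _ u.2 v.2)
      rw [pow_two] at hu hv huv
      rw [← inv_eq_of_mul_eq_one_right huv, mul_inv_rev, inv_eq_of_mul_eq_one_right hu, inv_eq_of_mul_eq_one_right hv])⟩⟩, hall⟩)
  have hFc : Fintype.card F = 2 ^ m := by rw [hF, ← hm]; rfl
  have hm0 : m ≠ 0 := fun h => by rw [h] at hpm; have := hb.n_succ; omega
  have hbot : Subgroup.center (Matrix.SpecialLinearGroup (Fin 2) F) = ⊥ := by
    rw [← Subgroup.card_eq_one, GLOrder.card_center_SL, Fintype.card_fin, Nat.card_eq_fintype_card, hFc]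
    obtain ⟨m', rfl⟩ := Nat.exists_eq_succ_of_ne_zero hm0
    have := Nat.one_le_two_pow (n := m')
    exact Nat.coprime_two_left.mpr ⟨2 ^ m' - 1, by rw [pow_succ]; omega⟩
  exact ⟨m, F, iF, iFt, hFc, by omega, by have := hb.n_succ; omega,
    ⟨ψ.trans ((QuotientGroup.quotientMulEquivOfEq hbot).trans QuotientGroup.quotientBot)⟩⟩

end Cfsg.Agent.BrauerN
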