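/-
Perfect groups with a Sylow subgroup of prime order (namespace `Cfsg.Agent.BrauerN`).

Main results: `dichotomy`.
-/
import Cfsg.Agent.Lib.BrauerN.Recog
import Cfsg.Agent.Lib.BrauerN.Plus
import Cfsg.Agent.Lib.Cores.Basic
import Cfsg.Agent.Lib.CyclicDefect.Apply
import Cfsg.Agent.Lib.CentralChar.Fixed

set_option autoImplicit false
set_option linter.unusedSectionVars false
set_option linter.style.haveILetI false

namespace Cfsg.Agent.BrauerN

open Cfsg Cfsg.Agent.Blocks Cfsg.Agent.CyclicDefect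

variable {G : Type*} [Group G] [Finite G] {p : ℕ} [Fact p.Prime]

/-- The three possibilities when the `p'`-core is trivial. -/
theorem dichotomy_core (hperf : commutator G = ⊤) (hcore : pPrimeCore p G = ⊥) (P : Sylow p G)
    (hP : Nat.card P = p) {n : ℕ} (hn : Nat.card (Sylow p G) = 1 + n * p) :
    (∃ (F : Type) (_ : Field F) (_ : Fintype F), Fintype.card F = p ∧ 3 < p ∧
      Nonempty (G ≃* Matrix.ProjectiveSpecialLinearGroup (Fin 2) F)) ∨
    (∃ (m : ℕ) (F : Type) (_ : Field F) (_ : Fintype F), Fintype.card F = 2 ^ m ∧ p = 2 ^ m + 1 ∧ 3 < p ∧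
      Nonempty (G ≃* Matrix.SpecialLinearGroup (Fin 2) F)) ∨ HasForm p n := by
  classical
  by_cases hF : HasForm p n
  · exact Or.inr (Or.inr hF)
  have hp : p.Prime := Fact.out
  obtain ⟨x, L, -, hS⟩ := exists_setting_of_sylow hp P hP
  obtain ⟨M, hM⟩ := CentralChar.exists_pModular p
  have := Fintype.ofFinite (IrrCharacter G)
  have he := two_le_index hS hperf
  have hn1 := one_le_of_perfect hS hperf hn
  obtain ⟨hK, h⟩ := principal_shape hS hM hn hperf hF hcore
  have hpsl : n = 1 → (K x L).index * 2 = p - 1 → _ := fun h1 h2 =>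
    psl_case hS hK hcore (h1 ▸ hn) h2 he
  rcases h with ⟨A, B, X, ht, hsh⟩ | ⟨A, B, X, f₀, htf, hsh⟩
  · obtain ⟨h1, h2⟩ := plus_case hS hK hM hsh ht he hn1
    exact Or.inl (hpsl h1 (h2 ▸ hsh.cardX))
  · have hb := minus_basic hS hK hM hsh htf he hn1 hn
    rcases minus_case hS hK hM hsh hb hn1 hn with ⟨h1, h2⟩ | h2
    · exact Or.inl (hpsl h1 (h2 ▸ hsh.cardX))
    · exact Or.inr (Or.inl (sl_case hS hK hM hsh hb hcore hn1 hn h2))

theorem card_sylow_form (p : ℕ) [Fact p.Prime] (G : Type*) [Group G] [Finite G] :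
    ∃ n : ℕ, Nat.card (Sylow p G) = 1 + n * p := by
  have hp : p.Prime := Fact.out
  refine ⟨Nat.card (Sylow p G) / p, ?_⟩
  have h : Nat.card (Sylow p G) % p = 1 := Eq.trans (card_sylow_modEq_one p G) (Nat.one_mod_eq_one.mpr hp.ne_one)
  have := Nat.mod_add_div (Nat.card (Sylow p G)) p
  rw [h, mul_comm p] at this
  exact this.symm

/-- A perfect group with a Sylow subgroup of order `p`. -/
theorem dichotomy (hperf : commutator G = ⊤) (P : Sylow p G) (hP : Nat.card P = p) {n : ℕ}
    (hn : Nat.card (Sylow p G) = 1 + n * p) :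
    (∃ (F : Type) (_ : Field F) (_ : Fintype F), Fintype.card F = p ∧ 3 < p ∧
      Nonempty (G ⧸ pPrimeCore p G ≃* Matrix.ProjectiveSpecialLinearGroup (Fin 2) F)) ∨
    (∃ (m : ℕ) (F : Type) (_ : Field F) (_ : Fintype F), Fintype.card F = 2 ^ m ∧ p = 2 ^ m + 1 ∧ 3 < p ∧
      Nonempty (G ⧸ pPrimeCore p G ≃* Matrix.SpecialLinearGroup (Fin 2) F)) ∨ HasForm p n := by
  have hp : p.Prime := Fact.out
  set H := pPrimeCore p G with hH
  set f := QuotientGroup.mk' H
  have hf : Function.Surjective f := QuotientGroup.mk'_surjective H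
  have hperf' : commutator (G ⧸ H) = ⊤ := by
    rw [commutator_def, ← Subgroup.map_top_of_surjective f hf, ← Subgroup.map_commutator, ← commutator_def, hperf]
  let P' : Sylow p (G ⧸ H) := P.mapSurjective hf
  have hP' : Nat.card P' = p := by
    have h1 : Nat.card ((P : Subgroup G).map f) ∣ p := by
      conv_rhs => rw [← hP]
      exact Subgroup.card_map_dvd (P : Subgroup G) f
    refine ((Nat.dvd_prime hp).mp h1).resolve_left fun h => ?_
    have hle : (P : Subgroup G) ≤ H := by
      have := Subgroup.eq_bot_of_card_eq _ h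
      rwa [Subgroup.map_eq_bot_iff, QuotientGroup.ker_mk'] at this
    have := Subgroup.card_dvd_of_le hle
    rw [hP] at this
    exact Cores.not_dvd_card_pPrimeCore this
  obtain ⟨n', hn'⟩ := card_sylow_form p (G ⧸ H)
  have hdvd : Nat.card (Sylow p (G ⧸ H)) ∣ Nat.card (Sylow p G) := by
    rw [Sylow.card_eq_index_normalizer P', Sylow.card_eq_index_normalizer P,
      ← Subgroup.index_comap_of_surjective _ hf]
    refine Subgroup.index_dvd_of_le ?_
    rw [← Subgroup.map_le_iff_le_comap]
    exact Subgroup.le_normalizer_map f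
  obtain ⟨M, hM⟩ := hdvd
  rw [hn, hn'] at hM
  have hcore : pPrimeCore p (G ⧸ H) = ⊥ := Cores.pPrimeCore_quotient_self p
  rcases Nat.lt_trichotomy M 1 with h | h | h
  · have : M = 0 := by omega
    rw [this, mul_zero] at hM
    omega
  · rw [h, mul_one] at hM
    have heq : n = n' := by
      have := Nat.add_left_cancel hM
      exact Nat.eq_of_mul_eq_mul_right hp.pos this
    exact dichotomy_core hperf' hcore P' hP' (heq ▸ hn')
  · refine Or.inr (Or.inr (hasForm_of_dvd hp ?_ h hM))
    obtain ⟨x, L, -, hS⟩ := exists_setting_of_sylow hp P' hP'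
    exact one_le_of_perfect hS hperf' hn'

end Cfsg.Agent.BrauerN
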